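import Mathlib
import Cfsg.Prelude.Def_GeometricClasses
import Cfsg.Agent.Lib.MaxClass.UnitaryTransv

/-!
Finite arithmetic in a field of `p²` elements, coded by natural numbers below `p²`, for certificates about small
three-dimensional unitary groups.
-/

set_option autoImplicit false
set_option linter.style.haveILetI false

namespace Cfsg.Agent.Lib.MaxClass.Unitary.Three

open Cfsg Cfsg.Geo Matrix
open Cfsg.Agent.Lib.Aschbacher
open Cfsg.Agent.Lib.MaxClass
open Cfsg.Agent.Lib.MaxClass.Unitary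

/-- A coded vector. -/
abbrev V3 := ℕ × ℕ × ℕ

/-- A coded matrix, by rows. -/
abbrev M3 := V3 × V3 × V3

/-- The parameters of the coding. -/
structure Par where
  p : ℕ
  d : ℕ

namespace Par

variable (P : Par)

def qa (x y : ℕ) : ℕ := (x % P.p + y % P.p) % P.p + P.p * ((x / P.p + y / P.p) % P.p)

def qm (x y : ℕ) : ℕ :=
  (x % P.p * (y % P.p) + P.d * (x / P.p) * (y / P.p)) % P.p +
    P.p * ((x % P.p * (y / P.p) + x / P.p * (y % P.p)) % P.p)

def qn (x : ℕ) : ℕ := (P.p - x % P.p) % P.p + P.p * ((P.p - x / P.p % P.p) % P.p)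

def qc (x : ℕ) : ℕ := x % P.p + P.p * ((P.p - x / P.p % P.p) % P.p)

def qpow (x : ℕ) : ℕ → ℕ
  | 0 => 1
  | n + 1 => P.qm (qpow x n) x

def dot (u v : V3) : ℕ := P.qa (P.qa (P.qm u.1 v.1) (P.qm u.2.1 v.2.1)) (P.qm u.2.2 v.2.2)

def cjV (u : V3) : V3 := (P.qc u.1, P.qc u.2.1, P.qc u.2.2)

def herm (u v : V3) : ℕ := P.dot u (P.cjV v)

def smulV (c : ℕ) (u : V3) : V3 := (P.qm c u.1, P.qm c u.2.1, P.qm c u.2.2)

def cjM (A : M3) : M3 := (P.cjV A.1, P.cjV A.2.1, P.cjV A.2.2)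

end Par

/-- The transposed code. -/
def tp (A : M3) : M3 :=
  ((A.1.1, A.2.1.1, A.2.2.1), (A.1.2.1, A.2.1.2.1, A.2.2.2.1), (A.1.2.2, A.2.1.2.2, A.2.2.2.2))

/-- The identity code. -/
def oneM : M3 := ((1, 0, 0), (0, 1, 0), (0, 0, 1))

namespace Par

variable (P : Par)

def mv (A : M3) (v : V3) : V3 := (P.dot A.1 v, P.dot A.2.1 v, P.dot A.2.2 v)

def mm (A B : M3) : M3 := (P.mv (tp B) A.1, P.mv (tp B) A.2.1, P.mv (tp B) A.2.2)

def det (A : M3) : ℕ :=
  P.qa (P.qa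
    (P.qm A.1.1 (P.qa (P.qm A.2.1.2.1 A.2.2.2.2) (P.qn (P.qm A.2.1.2.2 A.2.2.2.1))))
    (P.qm A.1.2.1 (P.qa (P.qm A.2.1.2.2 A.2.2.1) (P.qn (P.qm A.2.1.1 A.2.2.2.2)))))
    (P.qm A.1.2.2 (P.qa (P.qm A.2.1.1 A.2.2.2.1) (P.qn (P.qm A.2.1.2.1 A.2.2.1))))

/-- The inverse of an isometry. -/
def invU (A : M3) : M3 := tp (P.cjM A)

def isU (A : M3) : Bool := decide (P.mm (tp A) (P.cjM A) = oneM) && decide (P.det A = 1)

def mpow (A : M3) : ℕ → M3
  | 0 => oneM
  | n + 1 => P.mm (mpow A n) A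

/-- The first non-zero entry. -/
def lead (v : V3) : ℕ := if v.1 = 0 then (if v.2.1 = 0 then v.2.2 else v.2.1) else v.1

/-- The normalised vector. -/
def nrm (v : V3) : V3 :=
  let a := lead v
  P.smulV (P.qm (P.qc a) (P.qpow (P.qm a (P.qc a)) (P.p - 2))) v

/-- The lines of `L` go into lines of `L`. -/
def good (L : List V3) (A : M3) : Bool :=
  L.all fun v => L.elem (P.nrm (P.mv A v)) && decide (P.smulV (lead (P.mv A v)) (P.nrm (P.mv A v)) = P.mv A v)

/-- The two vectors span one line at most. -/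
def coll (u v : V3) : Bool :=
  decide (P.qm u.1 v.2.1 = P.qm u.2.1 v.1) && decide (P.qm u.1 v.2.2 = P.qm u.2.2 v.1) &&
    decide (P.qm u.2.1 v.2.2 = P.qm u.2.2 v.2.1)

/-- Some line of `L` leaves `L`. -/
def bad (L : List V3) (A : M3) : Bool := L.any fun v => L.all fun w => !P.coll (P.mv A v) w

end Par

/-! ### Interpretation -/

variable {F : Type*} [Field F] {σ : F ≃+* F}

/-- The field is coded by `P` through `s`. -/
structure Coded (P : Par) (σ : F ≃+* F) (s : F) : Prop where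
  prime : P.p.Prime
  two_lt : 2 < P.p
  char : (P.p : F) = 0
  sq : s * s = (P.d : F)
  map_s : σ s = -s
  s_ne : s ≠ 0

/-- The value of a code. -/
def phi (P : Par) (s : F) (n : ℕ) : F := ((n % P.p : ℕ) : F) + ((n / P.p : ℕ) : F) * s

variable {P : Par} {s : F}

namespace Coded

variable (hc : Coded P σ s)

include hc

lemma cast_mod (a : ℕ) : ((a % P.p : ℕ) : F) = a := by
  conv_rhs => rw [← Nat.mod_add_div a P.p, Nat.cast_add, Nat.cast_mul, hc.char, zero_mul, add_zero]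

lemma phi_mk (A B : ℕ) : phi P s (A % P.p + P.p * (B % P.p)) = (A : F) + (B : F) * s := by
  have hp := hc.prime.pos
  rw [phi, Nat.add_mul_mod_self_left, Nat.mod_mod, Nat.add_mul_div_left _ _ hp,
    Nat.div_eq_of_lt (Nat.mod_lt _ hp), zero_add, hc.cast_mod, hc.cast_mod]

lemma cast_sub (b : ℕ) : ((P.p - b % P.p : ℕ) : F) = -(b : F) := by
  rw [Nat.cast_sub (Nat.mod_lt _ hc.prime.pos).le, hc.char, hc.cast_mod, zero_sub]

lemma phi_zero : phi P s 0 = 0 := by simp [phi]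

lemma phi_one : phi P s 1 = 1 := by
  rw [phi, Nat.mod_eq_of_lt hc.prime.one_lt, Nat.div_eq_of_lt hc.prime.one_lt]
  simp

lemma phi_qa (x y : ℕ) : phi P s (P.qa x y) = phi P s x + phi P s y := by
  rw [Par.qa, hc.phi_mk]
  unfold phi
  push_cast
  ring

lemma phi_qm (x y : ℕ) : phi P s (P.qm x y) = phi P s x * phi P s y := by
  rw [Par.qm, hc.phi_mk]
  unfold phi
  push_cast
  linear_combination (-((x / P.p : ℕ) : F) * ((y / P.p : ℕ) : F)) * hc.sq

lemma phi_qn (x : ℕ) : phi P s (P.qn x) = -phi P s x := by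
  rw [Par.qn, hc.phi_mk, hc.cast_sub, hc.cast_sub]
  unfold phi
  rw [hc.cast_mod]
  ring

lemma phi_qc (x : ℕ) : phi P s (P.qc x) = σ (phi P s x) := by
  rw [Par.qc, hc.phi_mk, hc.cast_sub]
  unfold phi
  rw [map_add, map_mul, map_natCast, map_natCast, hc.map_s, hc.cast_mod]
  ring

lemma phi_qpow (x n : ℕ) : phi P s (P.qpow x n) = phi P s x ^ n := by
  induction n with
  | zero => exact hc.phi_one.trans (pow_zero _).symm
  | succ n ih => rw [Par.qpow, hc.phi_qm, ih, pow_succ]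

lemma two_ne : (2 : F) ≠ 0 := by
  intro h
  haveI : CharP F P.p := (CharP.charP_iff_prime_eq_zero hc.prime).2 hc.char
  exact Nat.not_dvd_of_pos_of_lt two_pos hc.two_lt ((CharP.cast_eq_zero_iff F P.p 2).1 (by exact_mod_cast h))

lemma phi_inj {x y : ℕ} (hx : x < P.p * P.p) (hy : y < P.p * P.p) (h : phi P s x = phi P s y) : x = y := by
  haveI : CharP F P.p := (CharP.charP_iff_prime_eq_zero hc.prime).2 hc.char
  have h' := congrArg σ h
  unfold phi at h h'
  simp only [map_add, map_mul, map_natCast, hc.map_s] at h'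
  have h2 : (((x % P.p : ℕ) : F) - ((y % P.p : ℕ) : F)) * 2 = 0 := by linear_combination h + h'
  have h3 : (((x / P.p : ℕ) : F) - ((y / P.p : ℕ) : F)) * (2 * s) = 0 := by linear_combination h - h'
  have e1 := sub_eq_zero.1 ((mul_eq_zero.1 h2).resolve_right hc.two_ne)
  have e2 := sub_eq_zero.1 ((mul_eq_zero.1 h3).resolve_right (mul_ne_zero hc.two_ne hc.s_ne))
  have lx := Nat.div_lt_of_lt_mul hx
  have ly := Nat.div_lt_of_lt_mul hy
  have a1 : x % P.p = y % P.p := by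
    have := (CharP.natCast_eq_natCast F P.p).1 e1
    rwa [Nat.ModEq, Nat.mod_mod, Nat.mod_mod] at this
  have a2 : x / P.p = y / P.p := by
    have := (CharP.natCast_eq_natCast F P.p).1 e2
    rwa [Nat.ModEq, Nat.mod_eq_of_lt lx, Nat.mod_eq_of_lt ly] at this
  rw [← Nat.mod_add_div x P.p, ← Nat.mod_add_div y P.p, a1, a2]

omit hc in
lemma mk_lt (hp : 0 < P.p) (A B : ℕ) : A % P.p + P.p * (B % P.p) < P.p * P.p := by
  have h1 := Nat.mod_lt A hp
  have h2 : P.p * (B % P.p + 1) ≤ P.p * P.p := Nat.mul_le_mul_left _ (Nat.mod_lt B hp)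
  rw [Nat.mul_add, Nat.mul_one] at h2
  omega

lemma qa_lt (x y : ℕ) : P.qa x y < P.p * P.p := mk_lt hc.prime.pos _ _

lemma qm_lt (x y : ℕ) : P.qm x y < P.p * P.p := mk_lt hc.prime.pos _ _

lemma phi_surj [Fintype F] (hF : Fintype.card F = P.p ^ 2) (x : F) : ∃ n < P.p * P.p, phi P s n = x := by
  have hbij : Function.Bijective (fun n : Fin (P.p * P.p) => phi P s n) :=
    (Fintype.bijective_iff_injective_and_card _).2
      ⟨fun a b h => Fin.ext (hc.phi_inj a.2 b.2 h), by rw [Fintype.card_fin, hF, pow_two]⟩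
  obtain ⟨n, hn⟩ := hbij.2 x
  exact ⟨n, n.2, hn⟩

end Coded

/-- The value of a coded vector. -/
def phiV (P : Par) (s : F) (v : V3) : Fin 3 → F := ![phi P s v.1, phi P s v.2.1, phi P s v.2.2]

/-- The value of a coded matrix. -/
def phiM (P : Par) (s : F) (A : M3) : Matrix (Fin 3) (Fin 3) F := Matrix.of ![phiV P s A.1, phiV P s A.2.1, phiV P s A.2.2]

namespace Coded

variable (hc : Coded P σ s)

include hc

lemma phi_dot (u v : V3) : phi P s (P.dot u v) = phiV P s u ⬝ᵥ phiV P s v := by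
  simp [Par.dot, hc.phi_qa, hc.phi_qm, phiV, dotProduct, Fin.sum_univ_three]

lemma phiV_mv (A : M3) (v : V3) : phiV P s (P.mv A v) = phiM P s A *ᵥ phiV P s v := by
  funext i
  fin_cases i <;> simp [Par.mv, phiV, phiM, hc.phi_dot, Matrix.mulVec]

lemma phiV_smulV (c : ℕ) (v : V3) : phiV P s (P.smulV c v) = phi P s c • phiV P s v := by
  funext i
  fin_cases i <;> simp [Par.smulV, phiV, hc.phi_qm]

lemma phiV_cjV (v : V3) : phiV P s (P.cjV v) = fun i => σ (phiV P s v i) := by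
  funext i
  fin_cases i <;> simp [Par.cjV, phiV, hc.phi_qc]

omit hc in
lemma phiM_tp (A : M3) : phiM P s (tp A) = (phiM P s A)ᵀ := by
  ext i j
  fin_cases i <;> fin_cases j <;> rfl

lemma phiM_one : phiM P s oneM = 1 := by
  ext i j
  fin_cases i <;> fin_cases j <;> simp [oneM, phiM, phiV, hc.phi_zero, hc.phi_one]

lemma phiM_cjM (A : M3) : phiM P s (P.cjM A) = (phiM P s A).map σ := by
  ext i j
  fin_cases i <;> fin_cases j <;> simp [Par.cjM, Par.cjV, phiM, phiV, hc.phi_qc]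

lemma phiM_mm (A B : M3) : phiM P s (P.mm A B) = phiM P s A * phiM P s B := by
  ext i j
  fin_cases i <;> fin_cases j <;>
    simp [Par.mm, Par.mv, tp, phiM, phiV, hc.phi_dot, Matrix.mul_apply, dotProduct, Fin.sum_univ_three] <;> ring

lemma phi_det (A : M3) : phi P s (P.det A) = (phiM P s A).det := by
  rw [Matrix.det_fin_three]
  simp [Par.det, hc.phi_qa, hc.phi_qm, hc.phi_qn, phiM, phiV]
  ring

lemma phi_herm [Fintype F] {q : ℕ} (hσ : IsQAut q σ) (u v : V3) :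
    phi P s (P.herm u v) = hermForm 3 F q (phiV P s u) (phiV P s v) := by
  rw [Par.herm, hc.phi_dot, hc.phiV_cjV, herm_eq hσ, dotProduct_comm]

end Coded

/-- The lines coded by `L`. -/
def lineSet (P : Par) (s : F) (L : List V3) : Set (Fin 3 → F) := {x | ∃ v ∈ L, ∃ c : F, x = c • phiV P s v}

/-- The certifying group. -/
def cert (P : Par) (q : ℕ) (s : F) (L : List V3) : Subgroup (GL (Fin 3) F) :=
  stabilizing (glToMat (Fin 3) F) (lineSet P s L) ⊓ suGL 3 F q

/-- The coded matrix is in the group. -/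
def InM (P : Par) (s : F) (M : Subgroup (GL (Fin 3) F)) (A : M3) : Prop :=
  ∃ g ∈ M, (g : Matrix (Fin 3) (Fin 3) F) = phiM P s A

namespace Coded

variable [Fintype F] {q : ℕ} (hc : Coded P σ s) (hσ : IsQAut q σ)

include hc hσ

lemma exists_gl {A : M3} (h : P.isU A = true) :
    ∃ g ∈ suGL 3 F q, (g : Matrix (Fin 3) (Fin 3) F) = phiM P s A := by
  simp only [Par.isU, Bool.and_eq_true, decide_eq_true_eq] at h
  have hdet : (phiM P s A).det = 1 := by rw [← hc.phi_det, h.2, hc.phi_one]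
  let g : GL (Fin 3) F := Matrix.GeneralLinearGroup.mkOfDetNeZero (phiM P s A) (by rw [hdet]; exact one_ne_zero)
  have hg : (g : Matrix (Fin 3) (Fin 3) F) = phiM P s A := rfl
  refine ⟨g, ⟨hσ.mem_GU.2 ?_, Units.ext ?_⟩, hg⟩
  · rw [hg, ← hc.phiM_one, ← h.1, hc.phiM_mm, Coded.phiM_tp, hc.phiM_cjM]
  · rw [Matrix.GeneralLinearGroup.val_det_apply, hg, hdet, Units.val_one]

lemma inM_of_good {L : List V3} {A : M3} (hu : P.isU A = true) (hg : P.good L A = true) :
    InM P s (cert P q s L) A := by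
  obtain ⟨g, hgS, hgv⟩ := hc.exists_gl hσ hu
  refine ⟨g, ⟨?_, hgS⟩, hgv⟩
  have hsub : ∀ x ∈ lineSet P s L, (g : Matrix (Fin 3) (Fin 3) F) *ᵥ x ∈ lineSet P s L := by
    rintro _ ⟨v, hv, c, rfl⟩
    simp only [Par.good, List.all_eq_true, Bool.and_eq_true, decide_eq_true_eq, List.elem_iff] at hg
    obtain ⟨h1, h2⟩ := hg v hv
    refine ⟨_, h1, c * phi P s (Par.lead (P.mv A v)), ?_⟩
    rw [Matrix.mulVec_smul, hgv, ← hc.phiV_mv]
    conv_lhs => rw [← h2]
    rw [hc.phiV_smulV, smul_smul]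
  intro x
  refine ⟨hsub x, fun hx => ?_⟩
  let f : lineSet P s L → lineSet P s L := fun y => ⟨_, hsub y y.2⟩
  have hinj : ∀ a b, (g : Matrix (Fin 3) (Fin 3) F) *ᵥ a = (g : Matrix (Fin 3) (Fin 3) F) *ᵥ b → a = b := fun a b h => by
    have e := congrArg (((g⁻¹ : GL (Fin 3) F) : Matrix (Fin 3) (Fin 3) F) *ᵥ ·) h
    simpa [Matrix.mulVec_mulVec] using e
  obtain ⟨y, hy⟩ := Finite.injective_iff_surjective.1
    (show Function.Injective f from fun a b h => Subtype.ext (hinj _ _ (congrArg Subtype.val h))) ⟨_, hx⟩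
  rw [← hinj _ _ (congrArg Subtype.val hy)]
  exact y.2

lemma notMem_of_bad {L : List V3} {A : M3} (hb : P.bad L A = true) {g : GL (Fin 3) F}
    (hg : (g : Matrix (Fin 3) (Fin 3) F) = phiM P s A) : g ∉ cert P q s L := by
  intro hmem
  simp only [Par.bad, List.any_eq_true, List.all_eq_true, Bool.not_eq_true'] at hb
  obtain ⟨v, hv, hall⟩ := hb
  obtain ⟨w, hw, c, hcw⟩ := (hmem.1 (phiV P s v)).1 ⟨v, hv, 1, (one_smul _ _).symm⟩
  have hcw' : phiV P s (P.mv A v) = c • phiV P s w := by rw [hc.phiV_mv, ← hg]; exact hcw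
  have h0 := congrFun hcw' 0
  have h1 := congrFun hcw' 1
  have h2 := congrFun hcw' 2
  simp [phiV] at h0 h1 h2
  have : P.coll (P.mv A v) w = true := by
    simp only [Par.coll, Bool.and_eq_true, decide_eq_true_eq]
    refine ⟨⟨?_, ?_⟩, ?_⟩ <;>
      refine hc.phi_inj (hc.qm_lt _ _) (hc.qm_lt _ _) ?_ <;>
      simp only [hc.phi_qm, h0, h1, h2] <;> ring
  exact absurd this (by rw [hall w hw]; simp)

omit hσ in
lemma inM_mul {M : Subgroup (GL (Fin 3) F)} {A B : M3} (ha : InM P s M A) (hb : InM P s M B) :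
    InM P s M (P.mm A B) := by
  obtain ⟨g, hg, hgv⟩ := ha
  obtain ⟨h, hh, hhv⟩ := hb
  exact ⟨g * h, M.mul_mem hg hh, by rw [Units.val_mul, hgv, hhv, hc.phiM_mm]⟩

omit hσ in
lemma inM_one {M : Subgroup (GL (Fin 3) F)} : InM P s M oneM := ⟨1, M.one_mem, by rw [Units.val_one, hc.phiM_one]⟩

omit hσ in
lemma inM_pow {M : Subgroup (GL (Fin 3) F)} {A : M3} (ha : InM P s M A) (n : ℕ) : InM P s M (P.mpow A n) := by
  induction n with
  | zero => exact hc.inM_one
  | succ n ih => exact hc.inM_mul ih ha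

omit hc hσ in
lemma mem_of_inM {M : Subgroup (GL (Fin 3) F)} {A : M3} (ha : InM P s M A) {g : GL (Fin 3) F}
    (hg : (g : Matrix (Fin 3) (Fin 3) F) = phiM P s A) : g ∈ M := by
  obtain ⟨h, hh, hhv⟩ := ha
  rwa [Units.ext (hg.trans hhv.symm)]

end Coded

end Cfsg.Agent.Lib.MaxClass.Unitary.Three
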