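import Mathlib
import Cfsg.Agent.Lib.MaxClass.UnitaryThree.Codes

/-!
Decidable checks on coded matrices for the small three-dimensional unitary groups.
-/

set_option autoImplicit false

namespace Cfsg.Agent.Lib.MaxClass.Unitary.Three

namespace Par

variable (P : Par)

/-- The first coded basis vector. -/
def e0 : V3 := (1, 0, 0)

/-- A diagonal code. -/
def dia (a b c : ℕ) : M3 := ((a, 0, 0), (0, b, 0), (0, 0, c))

/-- All coded vectors with entries below `N` pass the test. -/
def allV (N : ℕ) (f : V3 → Bool) : Bool :=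
  (List.range N).all fun a => (List.range N).all fun b => (List.range N).all fun c => f (a, b, c)

def tr (A : M3) : ℕ := P.qa (P.qa A.1.1 A.2.1.2.1) A.2.2.2.2

def cross (u v : V3) : V3 :=
  (P.qa (P.qm u.2.1 v.2.2) (P.qn (P.qm u.2.2 v.2.1)),
    P.qa (P.qm u.2.2 v.1) (P.qn (P.qm u.1 v.2.2)),
    P.qa (P.qm u.1 v.2.1) (P.qn (P.qm u.2.1 v.1)))

/-- The matrix with columns `u`, `Z u`, `Z² u`. -/
def krylov (Z : M3) (u : V3) : M3 := tp (u, P.mv Z u, P.mv Z (P.mv Z u))

/-- Every matrix of the list is in the certified group. -/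
def allGood (L : List V3) (As : List M3) : Bool := As.all fun A => P.isU A && P.good L A

/-- Proper orthogonal codes over the prime field reduce into the list. -/
def orthOK (C : M3) (S : List M3) : Bool :=
  allV P.p fun u => !(decide (P.herm u u = 1)) || allV P.p fun v =>
    !(decide (P.herm v v = 1)) || !(decide (P.herm u v = 0)) ||
      (List.range P.p).any fun k => S.elem (P.mm (P.mpow C k) (tp (u, v, P.cross u v)))

/-- Diagonal forms over the prime field become scalar. -/
def absorbOK (Qs : List M3) : Bool :=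
  allV P.p fun a => decide (a.1 = 0) || decide (a.2.1 = 0) || decide (a.2.2 = 0) || Qs.any fun Q =>
    let G := P.mm (tp Q) (P.mm (dia a.1 a.2.1 a.2.2) Q)
    !(decide (G.1.1 = 0)) && decide (G = dia G.1.1 G.1.1 G.1.1) &&
      decide (Q.1.1 < P.p ∧ Q.1.2.1 < P.p ∧ Q.1.2.2 < P.p ∧ Q.2.1.1 < P.p ∧ Q.2.1.2.1 < P.p ∧
        Q.2.1.2.2 < P.p ∧ Q.2.2.1 < P.p ∧ Q.2.2.2.1 < P.p ∧ Q.2.2.2.2 < P.p)

/-- The centraliser of `Z` in the special group is in the list. -/
def centOK (Z : M3) (Ws : List M3) : Bool :=
  allV (P.p * P.p) fun u => !(decide (P.herm u u = 1)) ||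
    !(decide (P.herm u (P.mv Z u) = P.herm e0 (P.mv Z e0))) ||
    !(decide (P.det (P.krylov Z u) = P.det (P.krylov Z e0))) ||
    Ws.any fun A => decide (P.mv A e0 = u) && decide (P.mm A Z = P.mm Z A)

/-- The traces of the powers of `Z` determine the power up to the three conjugates. -/
def traceOK (Z : M3) : Bool :=
  (List.range 7).all fun j => !(decide (P.tr (P.mpow Z j) = P.tr Z)) || [1, 2, 4].elem j

/-- `t` moves the powers of `Z`. -/
def moves (Z t : M3) : Bool :=
  (List.range 7).all fun j => !(decide (P.mm t Z = P.mm (P.mpow Z j) t))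

/-- The roots of `X² + X + 2` exist and are not rational. -/
def quadOK : Bool :=
  (List.range (P.p * P.p)).any (fun n => decide (P.qa (P.qa (P.qm n n) n) 2 = 0)) &&
    (List.range (P.p * P.p)).all fun n => !(decide (P.qa (P.qa (P.qm n n) n) 2 = 0)) || !(decide (P.qc n = n))

/-- The fixed codes are the small ones. -/
def fixOK : Bool := (List.range (P.p * P.p)).all fun n => !(decide (P.qc n = n)) || decide (n < P.p)

/-- The cube roots of one are in the list. -/
def cubeOK (cs : List ℕ) : Bool :=
  (List.range (P.p * P.p)).all fun n => !(decide (P.qm (P.qm n n) n = 1)) || cs.elem n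

/-- Diagonal special isometries are in the certified group. -/
def diagOK (L : List V3) : Bool :=
  (List.range (P.p * P.p)).all fun a => !(decide (P.qm a (P.qc a) = 1)) || (List.range (P.p * P.p)).all fun b =>
    !(decide (P.qm b (P.qc b) = 1)) ||
      (P.isU (dia a b (P.qc (P.qm a b))) && P.good L (dia a b (P.qc (P.qm a b))))

/-- Diagonal special isometries normalising the group are in the certified group. -/
def diagNormOK (L : List V3) (Y : M3) (R : List M3) : Bool :=
  (List.range (P.p * P.p)).all fun a => !(decide (P.qm a (P.qc a) = 1)) || (List.range (P.p * P.p)).all fun b =>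
    !(decide (P.qm b (P.qc b) = 1)) ||
      !(R.any fun r => decide (P.mm (dia a b (P.qc (P.qm a b))) Y = P.mm r (dia a b (P.qc (P.qm a b))))) ||
      (P.isU (dia a b (P.qc (P.qm a b))) && P.good L (dia a b (P.qc (P.qm a b))))

end Par

end Cfsg.Agent.Lib.MaxClass.Unitary.Three
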