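import Mathlib
import Cfsg.Agent.Lib.MaxClass.UnitaryThree.Checks

/-!
Certificates for the special unitary groups in dimension three over fields with 9 and 25 elements.
-/

set_option autoImplicit false
set_option maxHeartbeats 4000000
set_option maxRecDepth 100000

namespace Cfsg.Agent.Lib.MaxClass.Unitary.Three

namespace Nine

/-- The coding. -/
def par : Par := ⟨3, 2⟩

def lines : List V3 :=
  [(0, 0, 1), (0, 1, 0), (0, 1, 3), (0, 1, 6), (1, 0, 0), (1, 0, 3), (1, 0, 6), (1, 1, 0), (1, 1, 5), (1, 1, 7),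
    (1, 2, 0), (1, 2, 5), (1, 2, 7), (1, 4, 3), (1, 4, 6), (1, 5, 4), (1, 5, 8), (1, 7, 4), (1, 7, 8), (1, 8, 3),
    (1, 8, 6)]

def axes : List V3 := [(1, 0, 0), (0, 1, 0), (0, 0, 1)]

def zed : M3 := ((1, 1, 4), (4, 8, 0), (3, 3, 7))

def dbl : M3 := ((5, 2, 6), (7, 2, 6), (0, 7, 8))

def mover : M3 := ((1, 1, 8), (8, 4, 0), (3, 3, 5))

def outside : M3 := ((2, 8, 1), (7, 3, 2), (1, 3, 5))

def outsideAxes : M3 := ((1, 1, 4), (4, 8, 0), (3, 3, 7))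

def roots : List ℕ := [1]

def signed : List M3 :=
  [((1, 0, 0), (0, 1, 0), (0, 0, 1)), ((1, 0, 0), (0, 2, 0), (0, 0, 2)), ((2, 0, 0), (0, 1, 0), (0, 0, 2)),
    ((2, 0, 0), (0, 2, 0), (0, 0, 1)), ((1, 0, 0), (0, 0, 2), (0, 1, 0)), ((1, 0, 0), (0, 0, 1), (0, 2, 0)),
    ((2, 0, 0), (0, 0, 1), (0, 1, 0)), ((2, 0, 0), (0, 0, 2), (0, 2, 0)), ((0, 1, 0), (1, 0, 0), (0, 0, 2)),
    ((0, 2, 0), (1, 0, 0), (0, 0, 1)), ((0, 1, 0), (2, 0, 0), (0, 0, 1)), ((0, 2, 0), (2, 0, 0), (0, 0, 2)),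
    ((0, 0, 1), (1, 0, 0), (0, 1, 0)), ((0, 0, 2), (1, 0, 0), (0, 2, 0)), ((0, 0, 2), (2, 0, 0), (0, 1, 0)),
    ((0, 0, 1), (2, 0, 0), (0, 2, 0)), ((0, 1, 0), (0, 0, 1), (1, 0, 0)), ((0, 2, 0), (0, 0, 2), (1, 0, 0)),
    ((0, 1, 0), (0, 0, 2), (2, 0, 0)), ((0, 2, 0), (0, 0, 1), (2, 0, 0)), ((0, 0, 2), (0, 1, 0), (1, 0, 0)),
    ((0, 0, 1), (0, 2, 0), (1, 0, 0)), ((0, 0, 1), (0, 1, 0), (2, 0, 0)), ((0, 0, 2), (0, 2, 0), (2, 0, 0))]

def words : List M3 :=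
  [((1, 0, 0), (0, 1, 0), (0, 0, 1)), ((1, 1, 4), (4, 8, 0), (3, 3, 7)), ((7, 2, 3), (7, 1, 6), (0, 5, 8)),
    ((5, 1, 3), (0, 4, 7), (8, 6, 1)), ((8, 0, 5), (1, 7, 3), (6, 4, 1)), ((4, 4, 0), (2, 1, 8), (6, 3, 5)),
    ((1, 7, 6), (1, 5, 6), (7, 0, 4))]

def absorbers : List M3 :=
  [((1, 0, 0), (0, 1, 0), (0, 0, 1)), ((1, 1, 0), (1, 2, 0), (0, 0, 1)), ((1, 0, 1), (0, 1, 0), (1, 0, 2)),
    ((1, 0, 0), (0, 1, 1), (0, 1, 2))]

def cycle : M3 := ((1, 0, 0), (0, 1, 0), (0, 0, 1))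

theorem group_good : par.allGood lines ([zed, dbl, mover] ++ words) = true := by decide +kernel

theorem signed_good : par.allGood axes (cycle :: signed ++ roots.map fun c => Par.dia c c c) = true := by decide +kernel

theorem dbl_rel : par.mm dbl zed = par.mm (par.mpow zed 2) dbl := by decide +kernel

theorem zed_pow : par.mpow zed 7 = oneM := by decide +kernel

theorem zed_ne : zed ≠ oneM := by decide +kernel

theorem cent : par.centOK zed words = true := by decide +kernel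

theorem trace : par.traceOK zed = true := by decide +kernel

theorem moved : par.moves zed mover = true := by decide +kernel

theorem quad : par.quadOK = true := by decide +kernel

theorem fix_small : par.fixOK = true := by decide +kernel

theorem cube : par.cubeOK roots = true := by decide +kernel

theorem orth : par.orthOK cycle signed = true := by decide +kernel

theorem absorb : par.absorbOK absorbers = true := by decide +kernel

theorem outside_bad : (par.isU outside && par.bad lines outside) = true := by decide +kernel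

theorem axes_bad : (par.isU outsideAxes && par.bad axes outsideAxes) = true := by decide +kernel

end Nine

namespace TwentyFive

/-- The coding. -/
def par : Par := ⟨5, 2⟩

def lines : List V3 :=
  [(0, 0, 1), (0, 1, 0), (0, 1, 1), (0, 1, 4), (0, 1, 12), (0, 1, 13), (0, 1, 17), (0, 1, 18), (1, 0, 0), (1, 0, 1),
    (1, 0, 4), (1, 0, 12), (1, 0, 13), (1, 0, 17), (1, 0, 18), (1, 1, 0), (1, 1, 1), (1, 1, 2), (1, 1, 3), (1, 1, 4),
    (1, 1, 10), (1, 1, 15), (1, 2, 1), (1, 2, 2), (1, 2, 3), (1, 2, 4), (1, 3, 1), (1, 3, 2), (1, 3, 3), (1, 3, 4),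
    (1, 4, 0), (1, 4, 1), (1, 4, 2), (1, 4, 3), (1, 4, 4), (1, 4, 10), (1, 4, 15), (1, 5, 5), (1, 5, 20), (1, 6, 9),
    (1, 6, 13), (1, 6, 17), (1, 6, 21), (1, 7, 13), (1, 7, 17), (1, 8, 12), (1, 8, 18), (1, 9, 6), (1, 9, 12),
    (1, 9, 18), (1, 9, 24), (1, 10, 1), (1, 10, 4), (1, 11, 14), (1, 11, 16), (1, 12, 0), (1, 12, 8), (1, 12, 9),
    (1, 12, 13), (1, 12, 17), (1, 12, 21), (1, 12, 22), (1, 13, 0), (1, 13, 6), (1, 13, 7), (1, 13, 12), (1, 13, 18),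
    (1, 13, 23), (1, 13, 24), (1, 14, 11), (1, 14, 19), (1, 15, 1), (1, 15, 4), (1, 16, 11), (1, 16, 19), (1, 17, 0),
    (1, 17, 6), (1, 17, 7), (1, 17, 12), (1, 17, 18), (1, 17, 23), (1, 17, 24), (1, 18, 0), (1, 18, 8), (1, 18, 9),
    (1, 18, 13), (1, 18, 17), (1, 18, 21), (1, 18, 22), (1, 19, 14), (1, 19, 16), (1, 20, 5), (1, 20, 20), (1, 21, 6),
    (1, 21, 12), (1, 21, 18), (1, 21, 24), (1, 22, 12), (1, 22, 18), (1, 23, 13), (1, 23, 17), (1, 24, 9),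
    (1, 24, 13), (1, 24, 17), (1, 24, 21)]

def axes : List V3 := [(1, 0, 0), (0, 1, 0), (0, 0, 1)]

def zed : M3 := ((0, 5, 11), (16, 3, 9), (14, 3, 9))

def dbl : M3 := ((3, 5, 3), (6, 16, 6), (19, 0, 11))

def mover : M3 := ((1, 1, 2), (4, 3, 4), (3, 4, 4))

def outside : M3 := ((2, 6, 20), (6, 9, 16), (14, 11, 0))

def outsideAxes : M3 := ((0, 5, 11), (16, 3, 9), (14, 3, 9))

def roots : List ℕ := [1, 12, 17]

def signed : List M3 :=
  [((1, 0, 0), (0, 1, 0), (0, 0, 1)), ((1, 0, 0), (0, 4, 0), (0, 0, 4)), ((4, 0, 0), (0, 1, 0), (0, 0, 4)),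
    ((4, 0, 0), (0, 4, 0), (0, 0, 1)), ((1, 0, 0), (0, 0, 4), (0, 1, 0)), ((1, 0, 0), (0, 0, 1), (0, 4, 0)),
    ((4, 0, 0), (0, 0, 1), (0, 1, 0)), ((4, 0, 0), (0, 0, 4), (0, 4, 0)), ((0, 1, 0), (1, 0, 0), (0, 0, 4)),
    ((0, 4, 0), (1, 0, 0), (0, 0, 1)), ((0, 1, 0), (4, 0, 0), (0, 0, 1)), ((0, 4, 0), (4, 0, 0), (0, 0, 4)),
    ((0, 0, 1), (1, 0, 0), (0, 1, 0)), ((0, 0, 4), (1, 0, 0), (0, 4, 0)), ((0, 0, 4), (4, 0, 0), (0, 1, 0)),
    ((0, 0, 1), (4, 0, 0), (0, 4, 0)), ((0, 1, 0), (0, 0, 1), (1, 0, 0)), ((0, 4, 0), (0, 0, 4), (1, 0, 0)),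
    ((0, 1, 0), (0, 0, 4), (4, 0, 0)), ((0, 4, 0), (0, 0, 1), (4, 0, 0)), ((0, 0, 4), (0, 1, 0), (1, 0, 0)),
    ((0, 0, 1), (0, 4, 0), (1, 0, 0)), ((0, 0, 1), (0, 1, 0), (4, 0, 0)), ((0, 0, 4), (0, 4, 0), (4, 0, 0))]

def words : List M3 :=
  [((1, 0, 0), (0, 1, 0), (0, 0, 1)), ((12, 0, 0), (0, 12, 0), (0, 0, 12)), ((17, 0, 0), (0, 17, 0), (0, 0, 17)),
    ((0, 5, 11), (16, 3, 9), (14, 3, 9)), ((0, 14, 5), (19, 6, 2), (11, 6, 2)),
    ((0, 11, 14), (20, 21, 24), (5, 21, 24)), ((8, 23, 15), (8, 22, 8), (8, 10, 7)),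
    ((15, 22, 7), (15, 10, 15), (15, 23, 8)), ((7, 10, 8), (7, 23, 7), (7, 22, 15)),
    ((4, 21, 18), (2, 17, 12), (4, 13, 6)), ((18, 3, 13), (24, 1, 17), (18, 4, 21)),
    ((13, 6, 4), (9, 12, 1), (13, 18, 3)), ((4, 2, 4), (6, 12, 18), (13, 17, 21)),
    ((18, 24, 18), (21, 17, 13), (4, 1, 3)), ((13, 9, 13), (3, 1, 4), (18, 12, 6)),
    ((23, 23, 23), (8, 7, 15), (10, 23, 22)), ((22, 22, 22), (15, 8, 7), (23, 22, 10)),
    ((10, 10, 10), (7, 15, 8), (22, 10, 23)), ((0, 11, 19), (20, 3, 3), (16, 24, 24)),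
    ((0, 5, 20), (16, 6, 6), (19, 9, 9)), ((0, 14, 16), (19, 21, 21), (20, 2, 2))]

def absorbers : List M3 :=
  [((1, 0, 0), (0, 1, 0), (0, 0, 1)), ((1, 1, 0), (1, 4, 0), (0, 0, 1)), ((1, 1, 0), (1, 4, 0), (0, 0, 2)),
    ((1, 0, 0), (0, 1, 0), (0, 0, 2)), ((1, 0, 1), (0, 1, 0), (1, 0, 4)), ((2, 0, 0), (0, 1, 1), (0, 1, 4)),
    ((2, 0, 0), (0, 1, 1), (0, 2, 3)), ((1, 0, 1), (0, 1, 0), (2, 0, 3)), ((1, 0, 1), (0, 2, 0), (1, 0, 4)),
    ((1, 0, 0), (0, 1, 1), (0, 2, 3)), ((1, 0, 0), (0, 1, 1), (0, 1, 4)), ((1, 0, 1), (0, 2, 0), (2, 0, 3)),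
    ((1, 0, 0), (0, 2, 0), (0, 0, 1)), ((1, 1, 0), (2, 3, 0), (0, 0, 1)), ((1, 1, 0), (2, 3, 0), (0, 0, 2)),
    ((1, 0, 0), (0, 2, 0), (0, 0, 2))]

def cycle : M3 := ((1, 1, 2), (4, 3, 4), (3, 4, 4))

def lines6 : List V3 :=
  [(1, 1, 5), (1, 1, 11), (1, 1, 16), (1, 1, 19), (1, 5, 1), (1, 5, 17), (1, 7, 7), (1, 7, 8), (1, 8, 7), (1, 8, 15),
    (1, 10, 22), (1, 10, 23), (1, 11, 1), (1, 11, 12), (1, 12, 11), (1, 12, 14), (1, 12, 16), (1, 12, 20),
    (1, 14, 12), (1, 14, 17), (1, 15, 8), (1, 15, 15), (1, 16, 1), (1, 16, 12), (1, 17, 5), (1, 17, 14), (1, 17, 19),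
    (1, 17, 20), (1, 19, 1), (1, 19, 17), (1, 20, 12), (1, 20, 17), (1, 22, 10), (1, 22, 22), (1, 23, 10),
    (1, 23, 23)]

def clock : M3 := ((1, 0, 0), (0, 12, 0), (0, 0, 17))

def shift : M3 := ((0, 0, 1), (1, 0, 0), (0, 1, 0))

def mover6 : M3 := ((2, 6, 20), (6, 9, 16), (14, 11, 0))

def outside6 : M3 := ((1, 1, 2), (4, 3, 4), (3, 4, 4))

def heis : List M3 :=
  [((1, 0, 0), (0, 1, 0), (0, 0, 1)), ((0, 0, 1), (1, 0, 0), (0, 1, 0)), ((0, 1, 0), (0, 0, 1), (1, 0, 0)),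
    ((1, 0, 0), (0, 12, 0), (0, 0, 17)), ((0, 0, 1), (12, 0, 0), (0, 17, 0)), ((0, 1, 0), (0, 0, 12), (17, 0, 0)),
    ((1, 0, 0), (0, 17, 0), (0, 0, 12)), ((0, 0, 1), (17, 0, 0), (0, 12, 0)), ((0, 1, 0), (0, 0, 17), (12, 0, 0)),
    ((12, 0, 0), (0, 12, 0), (0, 0, 12)), ((0, 0, 12), (12, 0, 0), (0, 12, 0)), ((0, 12, 0), (0, 0, 12), (12, 0, 0)),
    ((12, 0, 0), (0, 17, 0), (0, 0, 1)), ((0, 0, 12), (17, 0, 0), (0, 1, 0)), ((0, 12, 0), (0, 0, 17), (1, 0, 0)),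
    ((12, 0, 0), (0, 1, 0), (0, 0, 17)), ((0, 0, 12), (1, 0, 0), (0, 17, 0)), ((0, 12, 0), (0, 0, 1), (17, 0, 0)),
    ((17, 0, 0), (0, 17, 0), (0, 0, 17)), ((0, 0, 17), (17, 0, 0), (0, 17, 0)), ((0, 17, 0), (0, 0, 17), (17, 0, 0)),
    ((17, 0, 0), (0, 1, 0), (0, 0, 12)), ((0, 0, 17), (1, 0, 0), (0, 12, 0)), ((0, 17, 0), (0, 0, 1), (12, 0, 0)),
    ((17, 0, 0), (0, 12, 0), (0, 0, 1)), ((0, 0, 17), (12, 0, 0), (0, 1, 0)), ((0, 17, 0), (0, 0, 12), (1, 0, 0))]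

def frames : List M3 :=
  [((0, 0, 1), (1, 0, 0), (0, 1, 0)), ((0, 0, 4), (0, 4, 0), (4, 0, 0)), ((0, 1, 0), (0, 0, 1), (1, 0, 0)),
    ((0, 4, 0), (4, 0, 0), (0, 0, 4)), ((1, 0, 0), (0, 1, 0), (0, 0, 1)), ((4, 0, 0), (0, 0, 4), (0, 4, 0)),
    ((7, 7, 7), (7, 15, 8), (7, 8, 15)), ((7, 7, 7), (8, 7, 15), (15, 7, 8)), ((7, 7, 7), (15, 8, 7), (8, 15, 7)),
    ((7, 7, 8), (7, 15, 15), (15, 7, 15)), ((7, 7, 8), (8, 7, 7), (8, 15, 8)), ((7, 7, 8), (15, 8, 8), (7, 8, 7)),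
    ((7, 7, 15), (7, 15, 7), (8, 15, 15)), ((7, 7, 15), (8, 7, 8), (7, 8, 8)), ((7, 7, 15), (15, 8, 15), (15, 7, 7)),
    ((10, 10, 10), (10, 23, 22), (10, 22, 23)), ((10, 10, 10), (22, 10, 23), (23, 10, 22)),
    ((10, 10, 10), (23, 22, 10), (22, 23, 10)), ((10, 10, 22), (10, 23, 23), (23, 10, 23)),
    ((10, 10, 22), (22, 10, 10), (22, 23, 22)), ((10, 10, 22), (23, 22, 22), (10, 22, 10)),
    ((10, 10, 23), (10, 23, 10), (22, 23, 23)), ((10, 10, 23), (22, 10, 22), (10, 22, 22)),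
    ((10, 10, 23), (23, 22, 23), (23, 10, 10))]

def perms : List M3 :=
  [((1, 0, 0), (0, 1, 0), (0, 0, 1)), ((1, 0, 0), (0, 0, 4), (0, 1, 0)), ((0, 1, 0), (1, 0, 0), (0, 0, 4)),
    ((0, 0, 1), (1, 0, 0), (0, 1, 0)), ((0, 1, 0), (0, 0, 1), (1, 0, 0)), ((0, 0, 4), (0, 1, 0), (1, 0, 0))]

theorem group_good : par.allGood lines ([zed, dbl, mover] ++ words) = true := by decide +kernel

theorem signed_good : par.allGood lines (cycle :: signed ++ roots.map fun c => Par.dia c c c) = true := by decide +kernel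

theorem dbl_rel : par.mm dbl zed = par.mm (par.mpow zed 2) dbl := by decide +kernel

theorem zed_pow : par.mpow zed 7 = oneM := by decide +kernel

theorem zed_ne : zed ≠ oneM := by decide +kernel

theorem cent : par.centOK zed words = true := by decide +kernel

theorem trace : par.traceOK zed = true := by decide +kernel

theorem moved : par.moves zed mover = true := by decide +kernel

theorem quad : par.quadOK = true := by decide +kernel

theorem fix_small : par.fixOK = true := by decide +kernel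

theorem cube : par.cubeOK roots = true := by decide +kernel

theorem orth : par.orthOK cycle signed = true := by decide +kernel

theorem absorb : par.absorbOK absorbers = true := by decide +kernel

theorem outside_bad : (par.isU outside && par.bad lines outside) = true := by decide +kernel

theorem axes_bad : (par.isU outsideAxes && par.bad axes outsideAxes) = true := by decide +kernel

theorem diag_good : par.diagOK lines = true := by decide +kernel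

theorem perms_good : par.allGood lines perms = true := by decide +kernel

theorem frames_good : par.allGood lines6 (mover6 :: frames) = true := by decide +kernel

theorem mover6_out : (heis.all fun r => !(decide (par.mm mover6 clock = par.mm r mover6))) = true := by decide +kernel

theorem diag_norm : par.diagNormOK lines6 shift heis = true := by decide +kernel

theorem frames_cover : (heis.all fun r => (roots.any fun c => decide (r = Par.dia c c c)) || frames.any fun w => decide (par.mm w clock = par.mm r w)) = true := by decide +kernel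

theorem heis_words : heis = (roots.flatMap fun c => (List.range 3).flatMap fun i => (List.range 3).map fun j => par.mm (par.mm (Par.dia c c c) (par.mpow clock i)) (par.mpow shift j)) := by decide +kernel

theorem heis_nodup : heis.Nodup := by decide +kernel

theorem heis_length : heis.length = 27 := by decide +kernel

theorem outside6_bad : (par.isU outside6 && par.bad lines6 outside6) = true := by decide +kernel

end TwentyFive

end Cfsg.Agent.Lib.MaxClass.Unitary.Three
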