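import Mathlib
import Cfsg.Agent.Lib.MaxClass.UnitaryThree.Checks
import Cfsg.Agent.Lib.MaxClass.UnitaryThreeTop

/-!
Moving maximal subgroups by isometries, and reading matrices as codes.
-/

set_option autoImplicit false
set_option linter.style.haveILetI false

namespace Cfsg.Agent.Lib.MaxClass.Unitary.Three

open Cfsg Cfsg.Geo Matrix
open Cfsg.Agent.Lib.Aschbacher
open Cfsg.Agent.Lib.MaxClass
open Cfsg.Agent.Lib.MaxClass.Unitary

variable {F : Type*} [Field F] [Fintype F] {q : ℕ} {σ : F ≃+* F}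

/-- The image under conjugation by the inverse. -/
abbrev back (P : GL (Fin 3) F) (H : Subgroup (GL (Fin 3) F)) : Subgroup (GL (Fin 3) F) :=
  H.map (MulAut.conj P⁻¹).toMonoidHom

omit [Fintype F] in
lemma mem_back {P g : GL (Fin 3) F} {H : Subgroup (GL (Fin 3) F)} : g ∈ back P H ↔ P * g * P⁻¹ ∈ H := by
  constructor
  · rintro ⟨x, hx, rfl⟩
    simpa [mul_assoc] using hx
  · intro h
    exact ⟨_, h, by simp [mul_assoc]⟩

omit [Fintype F] in
lemma back_su {P : GL (Fin 3) F} (hP : P ∈ GU 3 F q) : back P (suGL 3 F q) = suGL 3 F q := by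
  ext g
  rw [mem_back, Subgroup.mem_inf, Subgroup.mem_inf]
  have hdet : Matrix.GeneralLinearGroup.det (P * g * P⁻¹) = Matrix.GeneralLinearGroup.det g := by
    rw [map_mul, map_mul, map_inv, mul_comm (Matrix.GeneralLinearGroup.det P), mul_inv_cancel_right]
  refine ⟨fun h => ⟨?_, ?_⟩, fun h => ⟨mul_mem (mul_mem hP h.1) (inv_mem hP), ?_⟩⟩
  · have := mul_mem (mul_mem (inv_mem hP) h.1) hP
    simpa [mul_assoc] using this
  · exact hdet.symm.trans h.2
  · exact hdet.trans h.2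

omit [Fintype F] in
lemma maximal_back {P : GL (Fin 3) F} (hP : P ∈ GU 3 F q) {H : Subgroup (GL (Fin 3) F)}
    (hH : IsMaximalIn (suGL 3 F q) H) : IsMaximalIn (suGL 3 F q) (back P H) := by
  let e : GL (Fin 3) F ≃* GL (Fin 3) F := MulAut.conj P⁻¹
  have hsu : (suGL 3 F q).map e.toMonoidHom = suGL 3 F q := back_su hP
  refine ⟨?_, fun M h1 h2 => ?_⟩
  · rw [← hsu]
    exact (Subgroup.map_lt_map_iff_of_injective e.injective).2 hH.1
  · have hM : (M.comap e.toMonoidHom).map e.toMonoidHom = M :=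
      Subgroup.map_comap_eq_self_of_surjective e.surjective M
    rw [← hM] at h1
    rw [← hM, ← hsu] at h2
    rcases hH.2 _ ((Subgroup.map_le_map_iff_of_injective e.injective).1 h1)
      ((Subgroup.map_le_map_iff_of_injective e.injective).1 h2) with h | h
    · left; rw [← hM, h]
    · right; rw [← hM, h, hsu]

omit [Fintype F] in
/-- A maximal subgroup has no proper overgroup other than itself. -/
lemma false_of_witness {H M : Subgroup (GL (Fin 3) F)} (hH : IsMaximalIn (suGL 3 F q) H) (hle : H ≤ M)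
    (hM : M ≤ suGL 3 F q) {t : GL (Fin 3) F} (ht : t ∈ M) (htH : t ∉ H) {s : GL (Fin 3) F}
    (hs : s ∈ suGL 3 F q) (hsM : s ∉ M) : False := by
  rcases hH.2 M hle hM with h | h
  · exact htH (h ▸ ht)
  · exact hsM (h ▸ hs)

/-- The entries of a code are reduced. -/
def Bnd (P : Par) (A : M3) : Prop :=
  (A.1.1 < P.p * P.p ∧ A.1.2.1 < P.p * P.p ∧ A.1.2.2 < P.p * P.p) ∧
  (A.2.1.1 < P.p * P.p ∧ A.2.1.2.1 < P.p * P.p ∧ A.2.1.2.2 < P.p * P.p) ∧
  (A.2.2.1 < P.p * P.p ∧ A.2.2.2.1 < P.p * P.p ∧ A.2.2.2.2 < P.p * P.p)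

variable {P : Par} {s : F}

namespace Coded

variable (hc : Coded P σ s)

include hc

omit [Fintype F] in
lemma phiV_inj {u v : V3} (hu : u.1 < P.p * P.p ∧ u.2.1 < P.p * P.p ∧ u.2.2 < P.p * P.p)
    (hv : v.1 < P.p * P.p ∧ v.2.1 < P.p * P.p ∧ v.2.2 < P.p * P.p) (h : phiV P s u = phiV P s v) : u = v :=
  Prod.ext (hc.phi_inj hu.1 hv.1 (congrFun h 0))
    (Prod.ext (hc.phi_inj hu.2.1 hv.2.1 (congrFun h 1)) (hc.phi_inj hu.2.2 hv.2.2 (congrFun h 2)))

omit [Fintype F] in
lemma phiM_inj {A B : M3} (hA : Bnd P A) (hB : Bnd P B) (h : phiM P s A = phiM P s B) : A = B :=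
  Prod.ext (hc.phiV_inj hA.1 hB.1 (congrFun h 0))
    (Prod.ext (hc.phiV_inj hA.2.1 hB.2.1 (congrFun h 1)) (hc.phiV_inj hA.2.2 hB.2.2 (congrFun h 2)))

omit [Fintype F] in
lemma dot_lt (u v : V3) : P.dot u v < P.p * P.p := hc.qa_lt _ _

omit [Fintype F] in
lemma bnd_mm (A B : M3) : Bnd P (P.mm A B) :=
  ⟨⟨hc.dot_lt _ _, hc.dot_lt _ _, hc.dot_lt _ _⟩, ⟨hc.dot_lt _ _, hc.dot_lt _ _, hc.dot_lt _ _⟩,
    hc.dot_lt _ _, hc.dot_lt _ _, hc.dot_lt _ _⟩

omit [Fintype F] in
lemma mm_inj {A B C D : M3} (h : phiM P s A * phiM P s B = phiM P s C * phiM P s D) : P.mm A B = P.mm C D :=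
  hc.phiM_inj (hc.bnd_mm _ _) (hc.bnd_mm _ _) (by rw [hc.phiM_mm, hc.phiM_mm, h])

omit [Fintype F] in
lemma phiM_mpow (A : M3) (n : ℕ) : phiM P s (P.mpow A n) = phiM P s A ^ n := by
  induction n with
  | zero => rw [pow_zero]; exact hc.phiM_one
  | succ n ih => rw [Par.mpow, hc.phiM_mm, ih, pow_succ]

omit [Fintype F] in
lemma phi_tr (A : M3) : phi P s (P.tr A) = (phiM P s A).trace := by
  rw [Matrix.trace_fin_three, Par.tr, hc.phi_qa, hc.phi_qa]
  rfl

omit [Fintype F] in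
lemma phiM_dia (a b c : ℕ) : phiM P s (Par.dia a b c) = Matrix.diagonal ![phi P s a, phi P s b, phi P s c] := by
  ext i j
  fin_cases i <;> fin_cases j <;> simp [Par.dia, phiM, phiV, hc.phi_zero]

omit [Fintype F] in
lemma phiV_e0 : phiV P s Par.e0 = Pi.single 0 1 := by
  funext i
  fin_cases i <;> simp [Par.e0, phiV, hc.phi_zero, hc.phi_one]

omit [Fintype F] hc in
lemma phi_eq_small {n : ℕ} (hn : n < P.p) : phi P s n = (n : F) := by
  simp [phi, Nat.mod_eq_of_lt hn, Nat.div_eq_of_lt hn]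

lemma exists_codeV (hF : Fintype.card F = P.p ^ 2) (x : Fin 3 → F) :
    ∃ u : V3, (u.1 < P.p * P.p ∧ u.2.1 < P.p * P.p ∧ u.2.2 < P.p * P.p) ∧ phiV P s u = x := by
  obtain ⟨a, ha, ha'⟩ := hc.phi_surj hF (x 0)
  obtain ⟨b, hb, hb'⟩ := hc.phi_surj hF (x 1)
  obtain ⟨c, hcc, hc'⟩ := hc.phi_surj hF (x 2)
  refine ⟨(a, b, c), ⟨ha, hb, hcc⟩, ?_⟩
  funext i
  fin_cases i <;> simp [phiV, ha', hb', hc']

/-- Fixed elements are small codes. -/
lemma exists_small (hF : Fintype.card F = P.p ^ 2) (hfix : P.fixOK = true) {x : F} (hx : σ x = x) :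
    ∃ n < P.p, phi P s n = x := by
  obtain ⟨n, hn, rfl⟩ := hc.phi_surj hF x
  refine ⟨n, ?_, rfl⟩
  have h1 : P.qc n = n := hc.phi_inj (mk_lt hc.prime.pos n (P.p - n / P.p % P.p) |>.trans_eq' rfl) hn
    (by rw [hc.phi_qc, hx])
  simp only [Par.fixOK, List.all_eq_true, List.mem_range, Bool.or_eq_true, Bool.not_eq_true',
    decide_eq_false_iff_not, decide_eq_true_eq] at hfix
  exact (hfix n hn).resolve_left (not_not.2 h1)

omit [Field F] [Fintype F] hc in
lemma allV_spec {N : ℕ} {f : V3 → Bool} (h : Par.allV N f = true) {u : V3}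
    (hu : u.1 < N ∧ u.2.1 < N ∧ u.2.2 < N) : f u = true := by
  simp only [Par.allV, List.all_eq_true, List.mem_range] at h
  exact h u.1 hu.1 u.2.1 hu.2.1 u.2.2 hu.2.2

variable (hσ : IsQAut q σ)

include hσ

lemma mem_of_allGood {L : List V3} {As : List M3} (h : P.allGood L As = true) {A : M3} (hA : A ∈ As) :
    InM P s (cert P q s L) A := by
  simp only [Par.allGood, List.all_eq_true, Bool.and_eq_true] at h
  exact hc.inM_of_good hσ (h A hA).1 (h A hA).2

lemma exists_outside {L : List V3} {A : M3} (h : (P.isU A && P.bad L A) = true) :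
    ∃ g ∈ suGL 3 F q, g ∉ cert P q s L := by
  rw [Bool.and_eq_true] at h
  obtain ⟨g, hg, hgv⟩ := hc.exists_gl hσ h.1
  exact ⟨g, hg, hc.notMem_of_bad hσ h.2 hgv⟩

end Coded

/-- The coding of the field with `q²` elements for `q` three or five. -/
theorem exists_coded (hσ : IsQAut q σ) (hq : q = 3 ∨ q = 5) : ∃ s : F, Coded ⟨q, 2⟩ σ s := by
  obtain ⟨a, ha0, ha⟩ := exists_skew hσ
  have hq0 : (q : F) = 0 := by
    have h := FiniteField.cast_card_eq_zero F
    rw [hσ.card, Nat.cast_pow] at h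
    exact pow_eq_zero_iff two_ne_zero |>.1 h
  have hs : σ a = -a := by linear_combination ha
  have hne : σ a ≠ a := by
    intro h
    have h2 : (2 : F) * a = 0 := by linear_combination ha - h
    rcases mul_eq_zero.1 h2 with h2 | h2
    · rcases hq with rfl | rfl <;> push_cast at hq0
      · exact one_ne_zero (α := F) (by linear_combination hq0 - h2)
      · exact one_ne_zero (α := F) (by linear_combination hq0 - 2 * h2)
    · exact ha0 h2
  have hc0 : a * a ≠ 0 := mul_ne_zero ha0 ha0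
  have hpow : (a * a) ^ (q - 1) = 1 := by
    apply mul_right_cancel₀ hc0
    rw [one_mul, ← pow_succ, Nat.sub_add_cancel hσ.one_lt.le, ← hσ.eq_pow, map_mul, hs]
    ring
  have hnot : ∀ k : ℕ, a * a ≠ (k : F) * k := by
    intro k hk
    apply hne
    rcases mul_self_eq_mul_self_iff.1 hk with h | h <;> rw [h]
    · rw [map_natCast]
    · rw [map_neg, map_natCast]
  rcases hq with rfl | rfl <;> push_cast at hq0
  · refine ⟨a, ⟨Nat.prime_three, by decide, by push_cast; exact hq0, ?_, hs, ha0⟩⟩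
    norm_num at hpow
    rcases hpow with h | h
    · exact absurd h (fun h' => hnot 1 (by simpa using h'))
    · push_cast; linear_combination h - hq0
  · have h : (a * a - 1) * (a * a - 4) * ((a * a - 2) * (a * a - 3)) = 0 := by
      norm_num at hpow
      linear_combination hpow + (-2 * (a * a) ^ 3 + 7 * (a * a) ^ 2 - 10 * (a * a) + 5) * hq0
    rcases mul_eq_zero.1 h with h | h <;> rcases mul_eq_zero.1 h with h | h
    · exact absurd (sub_eq_zero.1 h) (fun h' => hnot 1 (by simpa using h'))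
    · exact absurd (sub_eq_zero.1 h) (fun h' => hnot 2 (by rw [h']; norm_num))
    · exact ⟨a, ⟨Nat.prime_five, by decide, by push_cast; exact hq0, by push_cast; exact sub_eq_zero.1 h, hs, ha0⟩⟩
    · refine ⟨2 * a, ⟨Nat.prime_five, by decide, by push_cast; exact hq0, ?_, ?_, ?_⟩⟩
      · push_cast
        linear_combination 4 * h + 2 * hq0
      · rw [map_mul, hs, map_ofNat]; ring
      · exact mul_ne_zero (fun h2 => one_ne_zero (α := F) (by linear_combination hq0 - 2 * h2)) ha0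

end Cfsg.Agent.Lib.MaxClass.Unitary.Three
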