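import Mathlib
import Cfsg.Agent.Lib.MaxClass.UnitaryThree.Transport
import Cfsg.Agent.Lib.MaxClass.UnitaryThree.Certs

/-!
The stabiliser of three orthogonal lines is not maximal in the special unitary group over the field of 25
elements.
-/

set_option autoImplicit false
set_option linter.style.haveILetI false

namespace Cfsg.Agent.Lib.MaxClass.Unitary.Three

open Cfsg Cfsg.Geo Matrix
open Cfsg.Agent.Lib.Aschbacher
open Cfsg.Agent.Lib.MaxClass
open Cfsg.Agent.Lib.MaxClass.Unitary

variable {F : Type*} [Field F] [Fintype F] {q : ℕ} {σ : F ≃+* F}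

omit [Fintype F] in
lemma mem_GU_apply {g : GL (Fin 3) F} (hg : g ∈ GU 3 F q) (u v : Fin 3 → F) :
    hermForm 3 F q ((g : Matrix (Fin 3) (Fin 3) F) *ᵥ u) ((g : Matrix (Fin 3) (Fin 3) F) *ᵥ v) =
      hermForm 3 F q u v := hg u v

lemma herm_single (hσ : IsQAut q σ) (i j : Fin 3) :
    hermForm 3 F q (Pi.single i 1) (Pi.single j 1) = if i = j then 1 else 0 := by
  rw [herm_single_left hσ, one_mul]
  simp [Pi.single_apply, apply_ite σ]

/-- An orthonormal triple is the image of the standard one. -/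
theorem exists_frame (hσ : IsQAut q σ) (b : Fin 3 → Fin 3 → F) (h1 : ∀ i, hermForm 3 F q (b i) (b i) = 1)
    (h0 : ∀ i j, i ≠ j → hermForm 3 F q (b i) (b j) = 0) :
    ∃ P : GL (Fin 3) F, P ∈ GU 3 F q ∧ ∀ i, (P : Matrix (Fin 3) (Fin 3) F) *ᵥ Pi.single i 1 = b i := by
  obtain ⟨M, hM⟩ : ∃ M : Matrix (Fin 3) (Fin 3) F, M = Matrix.of fun i j => b j i := ⟨_, rfl⟩
  have hG : Mᵀ * twist σ M = 1 := by
    ext i k
    rw [Matrix.one_apply, ← show hermForm 3 F q (b i) (b k) = if i = k then 1 else 0 by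
      split <;> [subst_vars; skip] <;> [exact h1 _; exact h0 _ _ ‹_›]]
    rw [herm_eq hσ]
    simp [hM, Matrix.mul_apply, twist, dotProduct, mul_comm]
  have hdet : M.det ≠ 0 := fun h => by
    have h' := congrArg Matrix.det hG
    rw [Matrix.det_mul, Matrix.det_transpose, h, zero_mul, Matrix.det_one] at h'
    exact zero_ne_one h'
  refine ⟨Matrix.GeneralLinearGroup.mkOfDetNeZero M hdet, hσ.mem_GU.2 hG, fun i => ?_⟩
  funext k
  show (M *ᵥ Pi.single i 1) k = b i k
  simp [hM]

variable {P : Par} {s : F} (hc : Coded P σ s) (hσ : IsQAut q σ)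

include hc hσ

/-- A diagonal special isometry is the code of three norm one numbers. -/
theorem exists_diag_code (hF : Fintype.card F = P.p ^ 2) {g : GL (Fin 3) F} (hg : g ∈ suGL 3 F q)
    (hd : ∀ i j, i ≠ j → (g : Matrix (Fin 3) (Fin 3) F) i j = 0) :
    ∃ a b : ℕ, a < P.p * P.p ∧ b < P.p * P.p ∧ P.qm a (P.qc a) = 1 ∧ P.qm b (P.qc b) = 1 ∧
      (g : Matrix (Fin 3) (Fin 3) F) = phiM P s (Par.dia a b (P.qc (P.qm a b))) := by
  obtain ⟨d, hd'⟩ : ∃ d : Fin 3 → F, d = fun i => (g : Matrix (Fin 3) (Fin 3) F) i i := ⟨_, rfl⟩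
  have hgd : (g : Matrix (Fin 3) (Fin 3) F) = Matrix.diagonal d := by
    ext i j
    by_cases h : i = j
    · subst h; simp [hd']
    · rw [Matrix.diagonal_apply_ne _ h, hd i j h]
  have hnorm : ∀ i, d i * σ (d i) = 1 := by
    intro i
    have h := mem_GU_apply hg.1 (Pi.single i 1) (Pi.single i 1)
    rw [herm_single hσ, if_pos rfl, hgd, Matrix.diagonal_mulVec_single, mul_one, herm_single_left hσ,
      Pi.single_eq_same] at h
    exact h
  have hdet : d 0 * d 1 * d 2 = 1 := by
    have h : (g : Matrix (Fin 3) (Fin 3) F).det = 1 := congrArg Units.val hg.2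
    rwa [hgd, Matrix.det_diagonal, Fin.prod_univ_three] at h
  obtain ⟨a, ha, ha'⟩ := hc.phi_surj hF (d 0)
  obtain ⟨b, hb, hb'⟩ := hc.phi_surj hF (d 1)
  have hone : 1 < P.p * P.p := Nat.one_lt_mul_iff.2 ⟨hc.prime.pos, hc.prime.pos, Or.inl hc.prime.one_lt⟩
  refine ⟨a, b, ha, hb, hc.phi_inj (hc.qm_lt _ _) hone ?_, hc.phi_inj (hc.qm_lt _ _) hone ?_, ?_⟩
  · rw [hc.phi_qm, hc.phi_qc, ha', hc.phi_one, hnorm]
  · rw [hc.phi_qm, hc.phi_qc, hb', hc.phi_one, hnorm]
  · rw [hgd, hc.phiM_dia]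
    congr 1
    funext i
    fin_cases i <;> simp [hc.phi_qc, hc.phi_qm, ha', hb']
    linear_combination (σ (d 0) * σ (d 1)) * hdet - d 2 * hnorm 1 - d 2 * d 1 * σ (d 1) * hnorm 0

omit P s hc

/-- Three orthogonal lines give no maximal subgroup for five. -/
theorem false_of_lines (hq : q = 5) {H : Subgroup (GL (Fin 3) F)} (hH : IsMaximalIn (suGL 3 F q) H)
    {D : Fin 3 → Submodule F (Fin 3 → F)} (hD : IsNondegenerateMDecomposition (hermForm 3 F q) 1 D)
    (hle : H ≤ decompositionStabilizer D) : False := by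
  classical
  subst hq
  obtain ⟨s, hc⟩ : ∃ s, Coded TwentyFive.par σ s := exists_coded hσ (Or.inr rfl)
  have hF : Fintype.card F = TwentyFive.par.p ^ 2 := hσ.card
  have hb : ∀ i, ∃ b ∈ D i, hermForm 3 F 5 b b = 1 := by
    intro i
    obtain ⟨b, hb, hb0⟩ : ∃ b ∈ D i, b ≠ 0 := (D i).ne_bot_iff.mp fun h => by
      have := hD.decomp.finrank_eq i
      rw [h, finrank_bot] at this
      omega
    obtain ⟨x, hx, hxb⟩ := (hD.nondegenerate i b hb hb0).1
    obtain ⟨c, hc'⟩ := (finrank_eq_one_iff_of_nonzero' (⟨b, hb⟩ : D i) (fun h => hb0 (congrArg Subtype.val h))).mp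
      (hD.decomp.finrank_eq i) ⟨x, hx⟩
    have hbb : hermForm 3 F 5 b b ≠ 0 := fun h => hxb (by
      have hc'' : c • b = x := congrArg Subtype.val hc'
      rw [← hc'', herm_smul_left hσ, h, mul_zero])
    obtain ⟨y, hy⟩ := exists_norm hσ (c := (hermForm 3 F 5 b b)⁻¹) (by rw [map_inv₀, herm_comm hσ])
    refine ⟨y • b, (D i).smul_mem _ hb, ?_⟩
    rw [herm_smul_left hσ, herm_smul_right hσ, ← mul_assoc, hy, inv_mul_cancel₀ hbb]
  choose b hb hbb using hb
  have h0 : ∀ i j, i ≠ j → hermForm 3 F 5 (b i) (b j) = 0 := fun i j h => hD.orthogonal i j h _ (hb i) _ (hb j)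
  obtain ⟨P, hP, hPb⟩ := exists_frame hσ b hbb h0
  have hH' := maximal_back hP hH
  have hmono : ∀ g ∈ back P H, ∀ i, ∃ (k : Fin 3) (c : F),
      (g : Matrix (Fin 3) (Fin 3) F) *ᵥ Pi.single i 1 = c • Pi.single k 1 := by
    intro g hg i
    obtain ⟨π, hπ⟩ := hle (mem_back.1 hg)
    have hmem : ((P * g * P⁻¹ : GL (Fin 3) F) : Matrix (Fin 3) (Fin 3) F) *ᵥ b i ∈ D (π i) := by
      rw [← hπ i]
      exact ⟨b i, hb i, Matrix.toLin'_apply _ _⟩
    have hne : b (π i) ≠ 0 := fun h => by
      have := hbb (π i)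
      rw [h, herm_zero_left hσ] at this
      exact zero_ne_one this
    obtain ⟨c, hc'⟩ := (finrank_eq_one_iff_of_nonzero' (⟨b (π i), hb _⟩ : D (π i))
      (fun h => hne (congrArg Subtype.val h))).mp (hD.decomp.finrank_eq _) ⟨_, hmem⟩
    refine ⟨π i, c, ?_⟩
    have hc'' := congrArg Subtype.val hc'
    simp only [SetLike.val_smul] at hc''
    rw [← hPb i, ← hPb (π i), Matrix.mulVec_mulVec, ← Units.val_mul, inv_mul_cancel_right, Units.val_mul,
      ← Matrix.mulVec_mulVec, ← Matrix.mulVec_smul] at hc''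
    exact (Matrix.mulVec_injective_iff_isUnit.2 P.isUnit hc''.symm)
  -- the stabiliser is inside the certified group
  have hsub : back P H ≤ cert TwentyFive.par 5 s TwentyFive.lines := by
    intro g hg
    have hgS : g ∈ suGL 3 F 5 := hH'.1.le hg
    choose k c hkc using hmono g hg
    have hkinj : Function.Injective k := by
      intro i j hij
      by_contra hne
      have h := mem_GU_apply hgS.1 (Pi.single i 1) (Pi.single j 1)
      rw [hkc, hkc, hij, herm_smul_left hσ, herm_smul_right hσ, herm_single hσ, herm_single hσ, if_pos rfl,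
        if_neg hne, mul_one] at h
      have hz : ∀ l, c l ≠ 0 := fun l hl => by
        have h := mem_GU_apply hgS.1 (Pi.single l 1) (Pi.single l 1)
        rw [hkc, hl, zero_smul, herm_zero_left hσ, herm_single hσ, if_pos rfl] at h
        exact zero_ne_one h
      exact mul_ne_zero (hz i) (fun h' => hz j (σ.injective (h'.trans (map_zero σ).symm))) h
    let π : Equiv.Perm (Fin 3) := Equiv.ofBijective k ⟨hkinj, Finite.injective_iff_surjective.1 hkinj⟩
    have hfact : ∀ π : Equiv.Perm (Fin 3), ∃ Q ∈ TwentyFive.perms, ∀ i : Fin 3,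
        TwentyFive.par.mv Q (if i = 0 then (1, 0, 0) else if i = 1 then (0, 1, 0) else (0, 0, 1)) =
          (if π i = 0 then (1, 0, 0) else if π i = 1 then (0, 1, 0) else (0, 0, 1)) ∨
        TwentyFive.par.mv Q (if i = 0 then (1, 0, 0) else if i = 1 then (0, 1, 0) else (0, 0, 1)) =
          (if π i = 0 then (4, 0, 0) else if π i = 1 then (0, 4, 0) else (0, 0, 4)) := by decide +kernel
    obtain ⟨Q, hQ, hQi⟩ := hfact π
    obtain ⟨w, hw, hwv⟩ := hc.mem_of_allGood hσ TwentyFive.perms_good hQ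
    have hwk : ∀ i, ∃ e : F, e ≠ 0 ∧ (w : Matrix (Fin 3) (Fin 3) F) *ᵥ Pi.single i 1 = e • Pi.single (k i) 1 := by
      intro i
      have he : ∀ j : Fin 3, phiV TwentyFive.par s (if j = 0 then (1, 0, 0) else if j = 1 then (0, 1, 0) else (0, 0, 1)) =
          Pi.single j 1 ∧ phiV TwentyFive.par s (if j = 0 then (4, 0, 0) else if j = 1 then (0, 4, 0) else (0, 0, 4)) =
          phi TwentyFive.par s 4 • Pi.single j 1 := by
        intro j
        constructor <;> funext l <;> fin_cases j <;> fin_cases l <;>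
          simp [phiV, hc.phi_zero, hc.phi_one]
      rcases hQi i with h | h <;> have h' := congrArg (phiV TwentyFive.par s) h <;>
        rw [hc.phiV_mv, (he i).1, ← hwv] at h'
      · exact ⟨1, one_ne_zero, by rw [h', (he _).1, one_smul]; rfl⟩
      · refine ⟨_, fun h0 => ?_, h'.trans (he _).2⟩
        have := hc.phi_inj (x := 4) (y := 0) (by decide) (by decide) (by rw [h0, hc.phi_zero])
        omega
    have hd : w⁻¹ * g ∈ cert TwentyFive.par 5 s TwentyFive.lines := by
      have hS : w⁻¹ * g ∈ suGL 3 F 5 := mul_mem (inv_mem hw.2) hgS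
      obtain ⟨a, b, ha, hb, hna, hnb, hv⟩ := exists_diag_code hc hσ hF hS fun i j hij => by
        obtain ⟨e, he0, he⟩ := hwk j
        have h1 : ((w⁻¹ * g : GL (Fin 3) F) : Matrix (Fin 3) (Fin 3) F) *ᵥ Pi.single j 1 = (c j / e) • Pi.single j 1 := by
          rw [Units.val_mul, ← Matrix.mulVec_mulVec, hkc, show c j • (Pi.single (k j) 1 : Fin 3 → F) =
            (c j / e) • ((w : Matrix (Fin 3) (Fin 3) F) *ᵥ Pi.single j 1) by
              rw [he, smul_smul, div_mul_cancel₀ _ he0],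
            Matrix.mulVec_smul, Matrix.mulVec_mulVec, ← Units.val_mul, inv_mul_cancel, Units.val_one,
            Matrix.one_mulVec]
        have h2 := congrFun h1 i
        simpa [hij] using h2
      have hok := TwentyFive.diag_good
      simp only [Par.diagOK, List.all_eq_true, List.mem_range, Bool.or_eq_true, Bool.and_eq_true,
        Bool.not_eq_true', decide_eq_false_iff_not] at hok
      obtain ⟨h1, h2⟩ := ((hok a ha).resolve_left (not_not.2 hna) b hb).resolve_left (not_not.2 hnb)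
      exact Coded.mem_of_inM (hc.inM_of_good hσ h1 h2) hv
    simpa using mul_mem hw hd
  obtain ⟨t, ht, htv⟩ := hc.mem_of_allGood hσ TwentyFive.signed_good (List.mem_cons_self ..)
  obtain ⟨u, hu, huv⟩ := hc.exists_outside hσ TwentyFive.outside_bad
  refine false_of_witness hH' hsub inf_le_right ht (fun htH => ?_) hu huv
  obtain ⟨k, c, hkc⟩ := hmono t htH 0
  have hne : ∀ j : Fin 3, (t : Matrix (Fin 3) (Fin 3) F) j 0 ≠ 0 := by
    intro j h
    rw [htv] at h
    have h' : ∀ n : ℕ, n < 25 → phi TwentyFive.par s n = 0 → n = 0 := fun n hn he =>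
      hc.phi_inj hn (by decide) (by rw [he, hc.phi_zero])
    fin_cases j <;> simp [phiM, phiV, TwentyFive.cycle] at h <;>
      first
      | exact absurd (h' 1 (by norm_num) h) (by norm_num)
      | exact absurd (h' 4 (by norm_num) h) (by norm_num)
      | exact absurd (h' 3 (by norm_num) h) (by norm_num)
  obtain ⟨j, hj⟩ := exists_ne k
  refine hne j ?_
  have h2 := congrFun hkc j
  simpa [hj] using h2

end Cfsg.Agent.Lib.MaxClass.Unitary.Three
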