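import Mathlib
import Cfsg.Agent.Lib.MaxClass.UnitaryThree.Lines
import Cfsg.Agent.Lib.Classical.UnitaryOrder

/-!
Normalisers of cubic extension fields are not maximal in the special unitary groups over the fields of 9 and 25
elements.
-/

set_option autoImplicit false
set_option linter.style.haveILetI false

namespace Cfsg.Agent.Lib.MaxClass.Unitary.Three

open Cfsg Cfsg.Geo Matrix
open Cfsg.Agent.Lib.Aschbacher
open Cfsg.Agent.Lib.MaxClass
open Cfsg.Agent.Lib.MaxClass.Unitary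

variable {F : Type*} [Field F] [Fintype F] {q : ℕ} {σ : F ≃+* F}

lemma eq_of_herm_right (hσ : IsQAut q σ) {x y : Fin 3 → F}
    (h : ∀ v, hermForm 3 F q v x = hermForm 3 F q v y) : x = y := by
  have h0 : x - y = 0 := eq_zero_of_herm hσ fun v => by
    have e : hermForm 3 F q v ((x - y) + y) = hermForm 3 F q v y := by rw [sub_add_cancel, h]
    rw [herm_add_right hσ] at e
    linear_combination e
  exact sub_eq_zero.1 h0

/-- An extension field closed under adjoints contains an isometry of order seven. -/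
theorem exists_seven (hσ : IsQAut q σ) (h7 : 7 ∣ (q ^ 2) ^ 3 - 1) (hco : Nat.Coprime 7 (q ^ 2 - 1))
    (hroot : ∃ r : F, r * r + r + 2 = 0) (hirr : ∀ c : F, c * c + c + 2 = 0 → σ c ≠ c)
    {K : Subalgebra F (Matrix (Fin 3) (Fin 3) F)} (hK : IsFieldSubalgebra 3 K)
    (hadj : IsAdjointClosedFor (hermForm 3 F q) K) :
    ∃ z : GL (Fin 3) F, z ∈ GU 3 F q ∧ orderOf z = 7 ∧ (z : Matrix (Fin 3) (Fin 3) F) ∈ K ∧
      ∀ y ∈ K, y ^ 7 = 1 → ∃ j < 7, y = (z : Matrix (Fin 3) (Fin 3) F) ^ j := by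
  classical
  letI : CommRing K := { (inferInstance : Ring K) with mul_comm := fun a b => Subtype.ext (hK.comm _ a.2 _ b.2) }
  haveI : Nontrivial K := ⟨⟨0, 1, fun h => zero_ne_one (α := Matrix (Fin 3) (Fin 3) F) (congrArg Subtype.val h)⟩⟩
  have hF' : IsField K := ⟨exists_pair_ne K, mul_comm, fun {a} ha => by
    obtain ⟨y, hy, hay⟩ := hK.inv _ a.2 (fun h => ha (Subtype.ext h))
    exact ⟨⟨y, hy⟩, Subtype.ext hay⟩⟩
  haveI : IsDomain K := hF'.isDomain
  letI : Field K := hF'.toField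
  haveI : Finite K := Subtype.finite
  have hcardK : Nat.card K = (q ^ 2) ^ 3 := by
    rw [Module.natCard_eq_pow_finrank (K := F) (V := K), hK.finrank_eq, Nat.card_eq_fintype_card, hσ.card]
  have hdvd : 7 ∣ Nat.card Kˣ := by rw [Nat.card_units, hcardK]; exact h7
  haveI : Fact (Nat.Prime 7) := ⟨by norm_num⟩
  obtain ⟨u, hu⟩ := exists_prime_orderOf_dvd_card' 7 hdvd
  have huK : IsPrimitiveRoot (u : K) 7 := by
    rw [IsPrimitiveRoot.coe_units_iff, ← hu]
    exact IsPrimitiveRoot.orderOf u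
  let z : GL (Fin 3) F := Units.map K.val.toMonoidHom u
  have hzv : (z : Matrix (Fin 3) (Fin 3) F) = ((u : K) : Matrix (Fin 3) (Fin 3) F) := rfl
  have hcpow : ∀ n, (((u : K) ^ n : K) : Matrix (Fin 3) (Fin 3) F) = (z : Matrix (Fin 3) (Fin 3) F) ^ n :=
    fun n => SubmonoidClass.coe_pow _ n
  have hinjK : Function.Injective (Units.map K.val.toMonoidHom : Kˣ →* GL (Fin 3) F) :=
    fun a b h => Units.ext (Subtype.ext (congrArg Units.val h))
  have hz7 : orderOf z = 7 := (orderOf_injective _ hinjK u).trans hu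
  have hpows : ∀ y ∈ K, y ^ 7 = 1 → ∃ j < 7, y = (z : Matrix (Fin 3) (Fin 3) F) ^ j := by
    intro y hy hy7
    obtain ⟨j, hj, hje⟩ := huK.eq_pow_of_pow_eq_one (ξ := (⟨y, hy⟩ : K)) (Subtype.ext (by
      rw [SubmonoidClass.coe_pow]; exact hy7))
    exact ⟨j, hj, by rw [← hcpow, hje]⟩
  refine ⟨z, ?_, hz7, (u : K).2, hpows⟩
  obtain ⟨z', hz'K, hz'⟩ := hadj _ (u : K).2
  rw [← hzv] at hz'
  have hpow : ∀ n u v, hermForm 3 F q (((z : Matrix (Fin 3) (Fin 3) F) ^ n) *ᵥ u) v =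
      hermForm 3 F q u ((z' ^ n) *ᵥ v) := by
    intro n
    induction n with
    | zero => intro u v; simp
    | succ n ih =>
      intro u v
      rw [pow_succ', ← Matrix.mulVec_mulVec, hz', ih, Matrix.mulVec_mulVec, pow_succ]
  have hzp : (z : Matrix (Fin 3) (Fin 3) F) ^ 7 = 1 := by
    rw [← Units.val_pow_eq_pow_val, ← hz7, pow_orderOf_eq_one, Units.val_one]
  have hz'7 : z' ^ 7 = 1 := by
    refine Matrix.ext_of_mulVec_single fun i => eq_of_herm_right hσ fun v => ?_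
    rw [← hpow, hzp, Matrix.one_mulVec, Matrix.one_mulVec]
  obtain ⟨j, hj, hje⟩ := hpows z' hz'K hz'7
  subst hje
  have hjj : (z : Matrix (Fin 3) (Fin 3) F) ^ (j * j) = (z : Matrix (Fin 3) (Fin 3) F) ^ 1 := by
    refine Matrix.ext_of_mulVec_single fun i => eq_of_herm_right hσ fun v => ?_
    rw [pow_mul, ← hpow j v, ← herm_comm hσ, ← hz', herm_comm hσ, pow_one]
  have hjj' : (j * j) % 7 = 1 := by
    rw [← Units.val_pow_eq_pow_val, ← Units.val_pow_eq_pow_val] at hjj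
    have h := pow_inj_mod.1 (Units.ext hjj)
    rwa [hz7] at h
  have hj16 : j = 1 ∨ j = 6 := by interval_cases j <;> omega
  rcases hj16 with rfl | rfl
  · exfalso
    have hself : ∀ n u v, hermForm 3 F q (((z : Matrix (Fin 3) (Fin 3) F) ^ n) *ᵥ u) v =
        hermForm 3 F q u (((z : Matrix (Fin 3) (Fin 3) F) ^ n) *ᵥ v) := fun n u v => by
      simpa using hpow n u v
    obtain ⟨x, hx⟩ : ∃ x : K, x = (u : K) := ⟨_, rfl⟩
    have hx7 : x ^ 7 = 1 := by rw [hx]; exact huK.pow_eq_one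
    have hgeo : 1 + x + x ^ 2 + x ^ 3 + x ^ 4 + x ^ 5 + x ^ 6 = 0 := by
      have h := mul_eq_zero.1 (show (x - 1) * (1 + x + x ^ 2 + x ^ 3 + x ^ 4 + x ^ 5 + x ^ 6) = 0 by
        linear_combination hx7)
      exact h.resolve_left (sub_ne_zero.2 (hx ▸ huK.ne_one (by norm_num)))
    obtain ⟨A, hA⟩ : ∃ A, A = x + x ^ 2 + x ^ 4 := ⟨_, rfl⟩
    have hAq : A * A + A + 2 = 0 := by
      rw [hA]
      linear_combination 2 * hgeo + x * hx7
    obtain ⟨r, hr⟩ := hroot
    obtain ⟨c, hc, hAc⟩ : ∃ c : F, c * c + c + 2 = 0 ∧ A = algebraMap F K c := by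
      have hr' : algebraMap F K r * algebraMap F K r + algebraMap F K r + 2 = 0 := by
        rw [← map_mul, ← map_add, ← map_ofNat (algebraMap F K) 2, ← map_add, hr, map_zero]
      rcases mul_eq_zero.1 (show (A - algebraMap F K r) * (A + 1 + algebraMap F K r) = 0 by
        linear_combination hAq - hr') with h | h
      · exact ⟨r, hr, sub_eq_zero.1 h⟩
      · refine ⟨-1 - r, by linear_combination hr, ?_⟩
        rw [map_sub, map_neg, map_one]
        linear_combination h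
    apply hirr c hc
    have hAm : (A : Matrix (Fin 3) (Fin 3) F) = c • 1 := by
      rw [hAc, Subalgebra.coe_algebraMap, Algebra.algebraMap_eq_smul_one]
    have hAz : (A : Matrix (Fin 3) (Fin 3) F) = (z : Matrix (Fin 3) (Fin 3) F) ^ 1 +
        (z : Matrix (Fin 3) (Fin 3) F) ^ 2 + (z : Matrix (Fin 3) (Fin 3) F) ^ 4 := by
      rw [← hcpow, ← hcpow, ← hcpow, hA, hx, pow_one]
      rfl
    obtain ⟨e, he⟩ : ∃ e : Fin 3 → F, e = Pi.single 0 1 := ⟨_, rfl⟩
    have hee : hermForm 3 F q e e = 1 := by rw [he, herm_single hσ, if_pos rfl]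
    have h : hermForm 3 F q ((A : Matrix (Fin 3) (Fin 3) F) *ᵥ e) e =
        hermForm 3 F q e ((A : Matrix (Fin 3) (Fin 3) F) *ᵥ e) := by
      rw [hAz]
      simp only [Matrix.add_mulVec, herm_add_left hσ, herm_add_right hσ, hself]
    rw [hAm, Matrix.smul_mulVec, Matrix.one_mulVec, herm_smul_left hσ, herm_smul_right hσ, hee, mul_one, mul_one] at h
    exact h.symm
  · intro u v
    show hermForm 3 F q ((z : Matrix (Fin 3) (Fin 3) F) *ᵥ u) ((z : Matrix (Fin 3) (Fin 3) F) *ᵥ v) = _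
    rw [hz', Matrix.mulVec_mulVec, ← pow_succ, hzp, Matrix.one_mulVec]

/-- Any two isometries of order seven generate conjugate groups, seven dividing the order once. -/
theorem exists_conj_seven {m : ℕ} (hcard : Nat.card (GU 3 F q) = 7 * m) (hm : ¬ 7 ∣ m) {z z₀ : GL (Fin 3) F}
    (hz : z ∈ GU 3 F q) (hz' : orderOf z = 7) (hz₀ : z₀ ∈ GU 3 F q) (hz₀' : orderOf z₀ = 7) :
    ∃ P : GL (Fin 3) F, P ∈ GU 3 F q ∧ P * z₀ * P⁻¹ ∈ Subgroup.zpowers z := by
  classical
  haveI : Fact (Nat.Prime 7) := ⟨by norm_num⟩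
  haveI : Finite (GL (Fin 3) F) := inferInstance
  have hsyl : ∀ x : GU 3 F q, orderOf x = 7 → ∀ S : Sylow 7 (GU 3 F q), x ∈ (S : Subgroup (GU 3 F q)) →
      (S : Subgroup (GU 3 F q)) = Subgroup.zpowers x := by
    intro x hx S hxS
    have hm0 : m ≠ 0 := fun h => hm (h ▸ dvd_zero 7)
    have hS : Nat.card (S : Subgroup (GU 3 F q)) = 7 := by
      rw [Sylow.card_eq_multiplicity, hcard, Nat.factorization_mul (by norm_num) hm0, Finsupp.add_apply,
        Nat.Prime.factorization_self (by norm_num), Nat.factorization_eq_zero_of_not_dvd hm, pow_one]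
    exact (Subgroup.eq_of_le_of_card_ge (Subgroup.zpowers_le.2 hxS)
      (by rw [hS, Nat.card_zpowers, hx])).symm
  have hp : ∀ x : GU 3 F q, orderOf x = 7 → ∃ S : Sylow 7 (GU 3 F q), x ∈ (S : Subgroup (GU 3 F q)) := by
    intro x hx
    obtain ⟨S, hS⟩ := (IsPGroup.of_card (n := 1) (G := Subgroup.zpowers x)
      (by rw [Nat.card_zpowers, hx, pow_one])).exists_le_sylow
    exact ⟨S, hS (Subgroup.mem_zpowers x)⟩
  have ho : ∀ (x : GL (Fin 3) F) (hx : x ∈ GU 3 F q), orderOf x = 7 → orderOf (⟨x, hx⟩ : GU 3 F q) = 7 :=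
    fun x hx h => (Subgroup.orderOf_mk x hx).trans h
  obtain ⟨S₁, h₁⟩ := hp _ (ho z hz hz')
  obtain ⟨S₂, h₂⟩ := hp _ (ho z₀ hz₀ hz₀')
  obtain ⟨g, hg⟩ := MulAction.exists_smul_eq (GU 3 F q) S₂ S₁
  have hmem : g * ⟨z₀, hz₀⟩ * g⁻¹ ∈ (S₁ : Subgroup (GU 3 F q)) := by
    rw [← hg, Sylow.coe_subgroup_smul]
    exact ⟨_, h₂, rfl⟩
  rw [hsyl _ (ho z hz hz') S₁ h₁] at hmem
  obtain ⟨k, hk⟩ := hmem
  exact ⟨g, g.2, k, congrArg Subtype.val hk⟩

variable {P : Par} {s : F} (hc : Coded P σ s) (hσ : IsQAut q σ)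

include hc hσ

omit [Fintype F] hσ in
/-- The Krylov code of an image. -/
lemma phiM_krylov {X : Matrix (Fin 3) (Fin 3) F} {Z : M3} (hX : X * phiM P s Z = phiM P s Z * X) {u v : V3}
    (hu : phiV P s u = X *ᵥ phiV P s v) : phiM P s (P.krylov Z u) = X * phiM P s (P.krylov Z v) := by
  have h1 : phiV P s (P.mv Z u) = X *ᵥ phiV P s (P.mv Z v) := by
    rw [hc.phiV_mv, hc.phiV_mv, hu, Matrix.mulVec_mulVec, Matrix.mulVec_mulVec, hX]
  have h2 : phiV P s (P.mv Z (P.mv Z u)) = X *ᵥ phiV P s (P.mv Z (P.mv Z v)) := by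
    rw [hc.phiV_mv, hc.phiV_mv Z (P.mv Z v), h1, Matrix.mulVec_mulVec, Matrix.mulVec_mulVec, hX]
  rw [Par.krylov, Par.krylov, Coded.phiM_tp, Coded.phiM_tp]
  ext i j
  rw [Matrix.mul_apply_eq_vecMul]
  fin_cases j
  · exact congrFun hu i
  · exact congrFun h1 i
  · exact congrFun h2 i

/-- The centraliser of the code of order seven is certified. -/
theorem mem_of_commute (hF : Fintype.card F = P.p ^ 2) {Z : M3} {Ws : List M3} (hcent : P.centOK Z Ws = true)
    (hdet : P.det (P.krylov Z Par.e0) ≠ 0) {M : Subgroup (GL (Fin 3) F)} (hWs : ∀ A ∈ Ws, InM P s M A)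
    {g : GL (Fin 3) F} (hg : g ∈ suGL 3 F q)
    (hcomm : (g : Matrix (Fin 3) (Fin 3) F) * phiM P s Z = phiM P s Z * (g : Matrix (Fin 3) (Fin 3) F)) :
    g ∈ M := by
  have hone : 1 < P.p * P.p := Nat.one_lt_mul_iff.2 ⟨hc.prime.pos, hc.prime.pos, Or.inl hc.prime.one_lt⟩
  obtain ⟨u, hu, hu'⟩ := hc.exists_codeV hF ((g : Matrix (Fin 3) (Fin 3) F) *ᵥ phiV P s Par.e0)
  have hiso := fun a b => mem_GU_apply hg.1 a b
  have h1 : P.herm u u = 1 := hc.phi_inj (hc.dot_lt _ _) hone (by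
    rw [hc.phi_herm hσ, hu', hiso, hc.phi_one, hc.phiV_e0, herm_single hσ, if_pos rfl])
  have h2 : P.herm u (P.mv Z u) = P.herm Par.e0 (P.mv Z Par.e0) := hc.phi_inj (hc.dot_lt _ _) (hc.dot_lt _ _) (by
    rw [hc.phi_herm hσ, hc.phi_herm hσ, hc.phiV_mv, hc.phiV_mv, hu', Matrix.mulVec_mulVec, ← hcomm,
      ← Matrix.mulVec_mulVec, hiso])
  have hK := phiM_krylov hc (X := (g : Matrix (Fin 3) (Fin 3) F)) hcomm hu'
  have hgdet : (g : Matrix (Fin 3) (Fin 3) F).det = 1 := congrArg Units.val hg.2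
  have h3 : P.det (P.krylov Z u) = P.det (P.krylov Z Par.e0) := hc.phi_inj (hc.qa_lt _ _) (hc.qa_lt _ _) (by
    rw [hc.phi_det, hc.phi_det, hK, Matrix.det_mul, hgdet, one_mul])
  have hok := Coded.allV_spec hcent hu
  simp only [Bool.or_eq_true, Bool.not_eq_true', decide_eq_false_iff_not, h1, h2, h3, not_true_eq_false, false_or,
    List.any_eq_true, Bool.and_eq_true, decide_eq_true_eq] at hok
  obtain ⟨A, hA, hAe, hAZ⟩ := hok
  obtain ⟨w, hw, hwv⟩ := hWs A hA
  have hwK : phiM P s (P.krylov Z u) = (w : Matrix (Fin 3) (Fin 3) F) * phiM P s (P.krylov Z Par.e0) := by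
    refine phiM_krylov hc ?_ ?_
    · rw [hwv, ← hc.phiM_mm, ← hc.phiM_mm, hAZ]
    · rw [hwv, ← hc.phiV_mv, hAe]
  have hu0 : IsUnit (phiM P s (P.krylov Z Par.e0)) := by
    rw [Matrix.isUnit_iff_isUnit_det, isUnit_iff_ne_zero, ← hc.phi_det]
    exact fun h => hdet (hc.phi_inj (hc.qa_lt _ _) (Nat.mul_pos hc.prime.pos hc.prime.pos) (by rw [h, hc.phi_zero]))
  have hgw : g = w := Units.ext (hu0.mul_left_injective (hK.symm.trans hwK))
  exact hgw ▸ hw

omit P s hc

/-- Field normalisers are not maximal for three and five. -/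
theorem false_of_field (hq : q = 3 ∨ q = 5) {H : Subgroup (GL (Fin 3) F)} (hH : IsMaximalIn (suGL 3 F q) H)
    {K : Subalgebra F (Matrix (Fin 3) (Fin 3) F)} (hK : IsFieldSubalgebra 3 K)
    (hadj : IsAdjointClosedFor (hermForm 3 F q) K) (hle : H ≤ subalgebraNormalizer K) : False := by
  classical
  have key : ∀ (P : Par) (s : F), Coded P σ s → Fintype.card F = P.p ^ 2 → P.quadOK = true →
      ∀ (m : ℕ), Nat.card (GU 3 F q) = 7 * m → ¬ 7 ∣ m → 7 ∣ (q ^ 2) ^ 3 - 1 → Nat.Coprime 7 (q ^ 2 - 1) →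
      ∀ (L : List V3) (Z W T out : M3) (Ws : List M3), P.allGood L ([Z, W, T] ++ Ws) = true →
        P.mm W Z = P.mm (P.mpow Z 2) W → P.mpow Z 7 = oneM → P.mm Z oneM ≠ P.mm oneM oneM →
        P.centOK Z Ws = true → P.det (P.krylov Z Par.e0) ≠ 0 → P.traceOK Z = true → P.moves Z T = true →
        (P.isU out && P.bad L out) = true → False := by
    intro P s hc hF hquad m hm hm' h7 hco L Z W T out Ws hgood hWZ hZ7 hZ1 hcent hdet htr hmv hout
    simp only [Par.quadOK, Bool.and_eq_true, List.any_eq_true, List.all_eq_true, List.mem_range, Bool.or_eq_true,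
      Bool.not_eq_true', decide_eq_true_eq, decide_eq_false_iff_not] at hquad
    have h2 : phi P s 2 = 2 := by rw [Coded.phi_eq_small hc.two_lt]; norm_num
    have hquadv : ∀ n, phi P s (P.qa (P.qa (P.qm n n) n) 2) = phi P s n * phi P s n + phi P s n + 2 := fun n => by
      rw [hc.phi_qa, hc.phi_qa, hc.phi_qm, h2]
    have hroot : ∃ r : F, r * r + r + 2 = 0 := by
      obtain ⟨n, -, hn⟩ := hquad.1
      exact ⟨phi P s n, by rw [← hquadv, hn, hc.phi_zero]⟩
    have hirr : ∀ c : F, c * c + c + 2 = 0 → σ c ≠ c := by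
      intro c hcq hfix
      obtain ⟨n, hn, rfl⟩ := hc.phi_surj hF c
      rcases hquad.2 n hn with h | h
      · exact h (hc.phi_inj (hc.qa_lt _ _) (Nat.mul_pos hc.prime.pos hc.prime.pos)
          (by rw [hquadv, hcq, hc.phi_zero]))
      · exact h (hc.phi_inj (Coded.mk_lt hc.prime.pos n (P.p - n / P.p % P.p)) hn (by
          show phi P s (P.qc n) = _
          rw [hc.phi_qc, hfix]))
    obtain ⟨z, hz, hz7, hzK, hpows⟩ := exists_seven hσ h7 hco hroot hirr hK hadj
    obtain ⟨ZG, hZG, hZv⟩ := hc.mem_of_allGood hσ hgood (A := Z) (by simp)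
    obtain ⟨WG, hWG, hWv⟩ := hc.mem_of_allGood hσ hgood (A := W) (by simp)
    obtain ⟨TG, hTG, hTv⟩ := hc.mem_of_allGood hσ hgood (A := T) (by simp)
    have hZo : orderOf ZG = 7 := by
      haveI : Fact (Nat.Prime 7) := ⟨by norm_num⟩
      refine orderOf_eq_prime (Units.ext ?_) fun h => hZ1 ?_
      · rw [Units.val_pow_eq_pow_val, hZv, ← hc.phiM_mpow, hZ7, hc.phiM_one, Units.val_one]
      · exact hc.mm_inj (by rw [← hZv, h, hc.phiM_one, Units.val_one])
    obtain ⟨Q, hQ, hQz⟩ := exists_conj_seven hm hm' hz hz7 hZG.2.1 hZo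
    obtain ⟨k, hk⟩ := (isOfFinOrder_of_finite z).mem_powers_iff_mem_zpowers.2 hQz
    have hH' := maximal_back hQ hH
    have hpow : ∀ g ∈ back Q H, ∃ j < 7, g * ZG * g⁻¹ = ZG ^ j := by
      intro g hg
      obtain ⟨y, hy⟩ : ∃ y, y = Q * ZG * Q⁻¹ := ⟨_, rfl⟩
      have hyK : (y : Matrix (Fin 3) (Fin 3) F) ∈ K := by
        rw [hy, ← hk, Units.val_pow_eq_pow_val]
        exact pow_mem hzK k
      obtain ⟨g', hg'⟩ : ∃ g', g' = Q * g * Q⁻¹ := ⟨_, rfl⟩
      have hconj : ((g' * y * g'⁻¹ : GL (Fin 3) F) : Matrix (Fin 3) (Fin 3) F) ∈ K := by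
        rw [Units.val_mul, Units.val_mul]
        exact (hle (hg' ▸ mem_back.1 hg) _).1 hyK
      have hy7 : orderOf y = 7 := by
        rw [hy, show Q * ZG * Q⁻¹ = MulAut.conj Q ZG from rfl, MulEquiv.orderOf_eq, hZo]
      have hgy : (g' * y * g'⁻¹) ^ 7 = 1 := by rw [conj_pow, ← hy7, pow_orderOf_eq_one, mul_one, mul_inv_cancel]
      obtain ⟨a, ha, ha'⟩ := hpows _ hconj (by rw [← Units.val_pow_eq_pow_val, hgy, Units.val_one])
      rw [← Units.val_pow_eq_pow_val] at ha'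
      -- every power of z is a power of y
      have hzy : z ∈ Subgroup.zpowers y := by
        have hle' : Subgroup.zpowers y ≤ Subgroup.zpowers z := by
          rw [Subgroup.zpowers_le, hy]
          exact hQz
        rw [Subgroup.eq_of_le_of_card_ge hle' (by rw [Nat.card_zpowers, Nat.card_zpowers, hz7, hy7])]
        exact Subgroup.mem_zpowers z
      obtain ⟨b, hb⟩ := (isOfFinOrder_of_finite y).mem_powers_iff_mem_zpowers.2 hzy
      refine ⟨(b * a) % 7, Nat.mod_lt _ (by norm_num), ?_⟩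
      have e : g' * y * g'⁻¹ = y ^ (b * a) := by rw [Units.ext ha', ← hb, ← pow_mul]
      rw [hg', hy, conj_pow] at e
      rw [← hZo, pow_mod_orderOf]
      calc g * ZG * g⁻¹ = Q⁻¹ * (Q * g * Q⁻¹ * (Q * ZG * Q⁻¹) * (Q * g * Q⁻¹)⁻¹) * Q := by group
        _ = Q⁻¹ * (Q * ZG ^ (b * a) * Q⁻¹) * Q := by rw [e]
        _ = ZG ^ (b * a) := by group
    have hWs : ∀ A ∈ Ws, InM P s (cert P q s L) A := fun A hA =>
      hc.mem_of_allGood hσ hgood (List.mem_append_right _ hA)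
    have hW2 : WG * ZG * WG⁻¹ = ZG ^ 2 := by
      rw [mul_inv_eq_iff_eq_mul]
      refine Units.ext ?_
      rw [Units.val_mul, Units.val_mul, Units.val_pow_eq_pow_val, hWv, hZv, ← hc.phiM_mm, hWZ, hc.phiM_mm,
        hc.phiM_mpow]
    have hsub : back Q H ≤ cert P q s L := by
      intro g hg
      have hgS : g ∈ suGL 3 F q := hH'.1.le hg
      obtain ⟨j, hj, hgj⟩ := hpow g hg
      have htrj : P.tr (P.mpow Z j) = P.tr Z := hc.phi_inj (hc.qa_lt _ _) (hc.qa_lt _ _) (by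
        rw [hc.phi_tr, hc.phi_tr, hc.phiM_mpow, ← hZv, ← Units.val_pow_eq_pow_val, ← hgj, Units.val_mul,
          Units.val_mul, Matrix.trace_mul_cycle, Units.inv_mul, one_mul])
      simp only [Par.traceOK, List.all_eq_true, List.mem_range, Bool.or_eq_true, Bool.not_eq_true',
        decide_eq_false_iff_not, List.elem_iff] at htr
      have hj3 := (htr j hj).resolve_left (not_not.2 htrj)
      obtain ⟨i, hi⟩ : ∃ i : ℕ, WG ^ i * ZG * (WG ^ i)⁻¹ = ZG ^ j := by
        simp only [List.mem_cons, List.not_mem_nil, or_false] at hj3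
        rcases hj3 with rfl | rfl | rfl
        · exact ⟨0, by simp⟩
        · exact ⟨1, by rw [pow_one, hW2]⟩
        · refine ⟨2, ?_⟩
          calc WG ^ 2 * ZG * (WG ^ 2)⁻¹ = WG * (WG * ZG * WG⁻¹) * WG⁻¹ := by
                rw [pow_two, _root_.mul_inv_rev]
                simp only [mul_assoc]
            _ = WG * ZG ^ 2 * WG⁻¹ := by rw [hW2]
            _ = ZG ^ 4 := by rw [← conj_pow, hW2, ← pow_mul]
      have hcm : (WG ^ i)⁻¹ * g * ZG = ZG * ((WG ^ i)⁻¹ * g) := by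
        calc (WG ^ i)⁻¹ * g * ZG = (WG ^ i)⁻¹ * (g * ZG * g⁻¹) * g := by group
          _ = (WG ^ i)⁻¹ * (WG ^ i * ZG * (WG ^ i)⁻¹) * g := by rw [hgj, hi]
          _ = ZG * ((WG ^ i)⁻¹ * g) := by group
      have hmem : (WG ^ i)⁻¹ * g ∈ cert P q s L :=
        mem_of_commute hc hσ hF hcent hdet hWs (mul_mem (inv_mem (pow_mem hWG.2 i)) hgS)
          (by rw [← hZv, ← Units.val_mul, hcm, Units.val_mul])
      simpa using mul_mem (pow_mem hWG i) hmem
    obtain ⟨u, hu, huv⟩ := hc.exists_outside hσ hout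
    refine false_of_witness hH' hsub inf_le_right hTG (fun hT => ?_) hu huv
    obtain ⟨j, hj, hTj⟩ := hpow TG hT
    simp only [Par.moves, List.all_eq_true, List.mem_range, Bool.not_eq_true', decide_eq_false_iff_not] at hmv
    apply hmv j hj
    apply hc.mm_inj
    rw [hc.phiM_mpow, ← hTv, ← hZv, ← Units.val_pow_eq_pow_val, ← Units.val_mul, ← Units.val_mul,
      mul_inv_eq_iff_eq_mul.1 hTj]
  obtain ⟨s, hc⟩ := exists_coded hσ hq
  have hcard := Cfsg.Agent.Lib.Classical.natCard_GU hσ.card 3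
  simp [Finset.prod_range_succ, Nat.even_iff] at hcard
  rcases hq with rfl | rfl
  · exact key Nine.par s hc hσ.card Nine.quad 3456 (by rw [Nat.card_eq_fintype_card, hcard]; norm_num) (by decide) (by decide) (by decide)
      _ _ _ _ _ _ Nine.group_good Nine.dbl_rel Nine.zed_pow (by decide +kernel) Nine.cent (by decide +kernel)
      Nine.trace Nine.moved Nine.outside_bad
  · exact key TwentyFive.par s hc hσ.card TwentyFive.quad 324000 (by rw [Nat.card_eq_fintype_card, hcard]; norm_num) (by decide) (by decide) (by decide)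
      _ _ _ _ _ _ TwentyFive.group_good TwentyFive.dbl_rel TwentyFive.zed_pow (by decide +kernel) TwentyFive.cent
      (by decide +kernel) TwentyFive.trace TwentyFive.moved TwentyFive.outside_bad

end Cfsg.Agent.Lib.MaxClass.Unitary.Three
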