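import Mathlib
import Cfsg.Agent.Lib.MaxClass.UnitaryThree.Lines

/-!
Subfield groups of index two are not maximal in the special unitary groups over the fields of 9 and 25 elements.
-/

set_option autoImplicit false
set_option linter.style.haveILetI false

namespace Cfsg.Agent.Lib.MaxClass.Unitary.Three

open Cfsg Cfsg.Geo Matrix
open Cfsg.Agent.Lib.Aschbacher
open Cfsg.Agent.Lib.MaxClass
open Cfsg.Agent.Lib.MaxClass.Unitary

variable {F : Type*} [Field F] [Fintype F] {q : ℕ} {σ : F ≃+* F}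

omit [Fintype F] in
/-- A change of basis over the subfield and by a scalar keeps the subfield group. -/
lemma subfieldSubgroup_mul_range {F₀ : Subfield F} (P : GL (Fin 3) F) {r : GL (Fin 3) F}
    (hr : r ∈ (Matrix.GeneralLinearGroup.map (n := Fin 3) (F₀.subtype : F₀ →+* F)).range) :
    subfieldSubgroup F₀ (P * r) = subfieldSubgroup F₀ P := by
  ext g
  simp only [subfieldSubgroup, Subgroup.mem_map]
  have hr' := Subgroup.mem_sup_left (T := scalars (Fin 3) F) hr
  constructor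
  · rintro ⟨x, hx, rfl⟩
    exact ⟨r * x * r⁻¹, mul_mem (mul_mem hr' hx) (inv_mem hr'), by simp [mul_assoc]⟩
  · rintro ⟨x, hx, rfl⟩
    exact ⟨r⁻¹ * x * r, mul_mem (mul_mem (inv_mem hr') hx) hr', by simp [mul_assoc]⟩

/-- A subfield of index two is the fixed field. -/
lemma mem_subfield_iff (hσ : IsQAut q σ) {F₀ : Subfield F} (hcard : Fintype.card F = Nat.card F₀ ^ 2) {x : F} :
    x ∈ F₀ ↔ σ x = x := by
  have h0 : Nat.card F₀ = q := Nat.pow_left_injective two_ne_zero (hcard.symm.trans hσ.card)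
  haveI : Fintype F₀ := Fintype.ofFinite F₀
  have hle : F₀ ≤ fixedSub σ := by
    intro y hy
    have h := FiniteField.pow_card (⟨y, hy⟩ : F₀)
    rw [← Nat.card_eq_fintype_card, h0] at h
    rw [mem_fixedSub, hσ.eq_pow]
    exact congrArg Subtype.val h
  have heq : (F₀ : Set F) = (fixedSub σ : Set F) :=
    Set.eq_of_subset_of_ncard_le hle
      (le_of_eq (hσ.card_fixedSub.trans h0.symm)) (Set.toFinite _)
  exact (Set.ext_iff.1 heq x).trans mem_fixedSub

variable {P : Par} {s : F} (hc : Coded P σ s) (hσ : IsQAut q σ)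

include hc hσ

/-- A rational structure carrying the form has an orthonormal basis up to a scalar. -/
theorem exists_absorb (hF : Fintype.card F = P.p ^ 2) (hfix : P.fixOK = true) {Qs : List M3}
    (hQs : P.absorbOK Qs = true) {F₀ : Subfield F} (hmem : ∀ x : F, x ∈ F₀ ↔ σ x = x) (P₀ : GL (Fin 3) F)
    (hrat : IsFormRationalStructure (hermForm 3 F q) F₀ 1 P₀) :
    ∃ P' : GL (Fin 3) F, P' ∈ GU 3 F q ∧ subfieldSubgroup F₀ P' = subfieldSubgroup F₀ P₀ := by
  classical
  have h2 : (2 : F₀) ≠ 0 := fun h => hc.two_ne (congrArg Subtype.val h)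
  haveI : Invertible (2 : F₀) := invertibleOfNonzero h2
  have hσ0 : ∀ x : F₀, σ (x : F) = x := fun x => (hmem _).1 x.2
  let emb : (Fin 3 → F₀) → (Fin 3 → F) := fun u i => (u i : F)
  have hadd : ∀ u v, emb (u + v) = emb u + emb v := fun u v => rfl
  have hsmul : ∀ (c : F₀) u, emb (c • u) = (c : F) • emb u := fun c u => rfl
  let val : (Fin 3 → F₀) → (Fin 3 → F₀) → F₀ := fun u v =>
    ⟨hermForm 3 F q ((P₀ : Matrix (Fin 3) (Fin 3) F) *ᵥ emb u) ((P₀ : Matrix (Fin 3) (Fin 3) F) *ᵥ emb v), by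
      have := hrat (emb u) (emb v) (fun i => (u i).2) (fun i => (v i).2)
      rwa [one_mul] at this⟩
  let B : LinearMap.BilinForm F₀ (Fin 3 → F₀) := LinearMap.mk₂ F₀ val
    (fun u u' v => Subtype.ext (by simp [val, hadd, Matrix.mulVec_add, herm_add_left hσ]))
    (fun c u v => Subtype.ext (by simp [val, hsmul, Matrix.mulVec_smul, herm_smul_left hσ]))
    (fun u v v' => Subtype.ext (by simp [val, hadd, Matrix.mulVec_add, herm_add_right hσ]))
    (fun c u v => Subtype.ext (by simp [val, hsmul, Matrix.mulVec_smul, herm_smul_right hσ, hσ0]))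
  have hsym : LinearMap.IsSymm B := ⟨fun u v => Subtype.ext (by
    show hermForm 3 F q _ _ = hermForm 3 F q _ _
    rw [← herm_comm hσ]
    exact (hmem _).1 (val v u).2)⟩
  obtain ⟨v, hv⟩ := LinearMap.BilinForm.exists_orthogonal_basis hsym
  have hfr : Module.finrank F₀ (Fin 3 → F₀) = 3 := Module.finrank_fin_fun F₀
  let w := v.reindex (finCongr hfr)
  have hw : ∀ i j, i ≠ j → B (w i) (w j) = 0 := fun i j h => by
    simp only [w, Module.Basis.reindex_apply]
    exact hv fun h' => h ((finCongr hfr).symm.injective h')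
  let V₀ := (Pi.basisFun F₀ (Fin 3)).toMatrix w
  have hV₀ : IsUnit V₀ := IsUnit.of_mul_eq_one _ ((Pi.basisFun F₀ (Fin 3)).toMatrix_mul_toMatrix_flip w)
  let V : GL (Fin 3) F := Matrix.GeneralLinearGroup.map (F₀.subtype : F₀ →+* F) hV₀.unit
  obtain ⟨M, hM⟩ : ∃ M : GL (Fin 3) F, M = P₀ * V := ⟨_, rfl⟩
  have hcol : ∀ i, (M : Matrix (Fin 3) (Fin 3) F) *ᵥ Pi.single i 1 = (P₀ : Matrix (Fin 3) (Fin 3) F) *ᵥ emb (w i) := by
    intro i
    rw [hM, Units.val_mul, ← Matrix.mulVec_mulVec]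
    congr 1
    funext k
    rw [Matrix.mulVec_single_one]
    show (F₀.subtype (V₀ k i)) = _
    simp [V₀, emb, Module.Basis.toMatrix_apply]
  obtain ⟨G, hG⟩ : ∃ G : Matrix (Fin 3) (Fin 3) F,
      G = (M : Matrix (Fin 3) (Fin 3) F)ᵀ * twist σ (M : Matrix (Fin 3) (Fin 3) F) := ⟨_, rfl⟩
  have hGe : ∀ i j, G i j = (B (w i) (w j) : F) := by
    intro i j
    show _ = hermForm 3 F q ((P₀ : Matrix (Fin 3) (Fin 3) F) *ᵥ emb (w i)) ((P₀ : Matrix (Fin 3) (Fin 3) F) *ᵥ emb (w j))
    rw [← hcol, ← hcol, herm_eq hσ, hG]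
    simp [Matrix.mul_apply, twist, dotProduct, mul_comm]
  have hGd : G = Matrix.diagonal fun i => (B (w i) (w i) : F) := by
    ext i j
    by_cases h : i = j
    · subst h; rw [Matrix.diagonal_apply_eq, hGe]
    · rw [Matrix.diagonal_apply_ne _ h, hGe, hw i j h]; rfl
  have hdet : G.det ≠ 0 := by
    have hu : (M : Matrix (Fin 3) (Fin 3) F).det ≠ 0 := ((Matrix.isUnit_iff_isUnit_det _).1 M.isUnit).ne_zero
    rw [hG, Matrix.det_mul, Matrix.det_transpose]
    refine mul_ne_zero hu ?_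
    rw [show twist σ (M : Matrix (Fin 3) (Fin 3) F) = (σ : F →+* F).mapMatrix (M : Matrix (Fin 3) (Fin 3) F) from rfl,
      ← RingHom.map_det]
    exact fun h => hu (σ.injective (h.trans (map_zero σ).symm))
  have hne : ∀ i, (B (w i) (w i) : F) ≠ 0 := fun i => by
    rw [hGd, Matrix.det_diagonal] at hdet
    exact Finset.prod_ne_zero_iff.1 hdet i (Finset.mem_univ i)
  have hcode : ∀ i, ∃ n < P.p, phi P s n = (B (w i) (w i) : F) := fun i => hc.exists_small hF hfix (hσ0 _)
  choose n hn hnv using hcode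
  have hn0 : ∀ i, n i ≠ 0 := fun i h => hne i (by rw [← hnv i, h, hc.phi_zero])
  have hok := Coded.allV_spec hQs (u := (n 0, n 1, n 2)) ⟨hn 0, hn 1, hn 2⟩
  simp only [Bool.or_eq_true, decide_eq_true_eq, List.any_eq_true, Bool.and_eq_true, Bool.not_eq_true',
    decide_eq_false_iff_not, hn0, false_or] at hok
  obtain ⟨Q, -, ⟨hQ0, hQd⟩, hQs'⟩ := hok
  have hQp : ∀ i j, σ (phiM P s Q i j) = phiM P s Q i j ∧ phiM P s Q i j ∈ F₀ := by
    intro i j
    have hm : phiM P s Q i j ∈ F₀ := by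
      obtain ⟨a, b, c, d, e, f, g, h, k⟩ := hQs'
      fin_cases i <;> fin_cases j <;> simp [phiM, phiV] <;>
        first
        | (rw [Coded.phi_eq_small a]; exact natCast_mem F₀ _)
        | (rw [Coded.phi_eq_small b]; exact natCast_mem F₀ _)
        | (rw [Coded.phi_eq_small c]; exact natCast_mem F₀ _)
        | (rw [Coded.phi_eq_small d]; exact natCast_mem F₀ _)
        | (rw [Coded.phi_eq_small e]; exact natCast_mem F₀ _)
        | (rw [Coded.phi_eq_small f]; exact natCast_mem F₀ _)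
        | (rw [Coded.phi_eq_small g]; exact natCast_mem F₀ _)
        | (rw [Coded.phi_eq_small h]; exact natCast_mem F₀ _)
        | (rw [Coded.phi_eq_small k]; exact natCast_mem F₀ _)
    exact ⟨(hmem _).1 hm, hm⟩
  have hQt : twist σ (phiM P s Q) = phiM P s Q := by ext i j; exact (hQp i j).1
  have hGc : G = phiM P s (Par.dia (n 0) (n 1) (n 2)) := by
    rw [hc.phiM_dia, hGd]
    congr 1
    funext i
    fin_cases i <;> simp [hnv]
  have hstd := congrArg (phiM P s) hQd
  obtain ⟨g, hg⟩ : ∃ g, g = phi P s (P.mm (tp Q) (P.mm (Par.dia (n 0) (n 1) (n 2)) Q)).1.1 := ⟨_, rfl⟩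
  rw [hc.phiM_dia, hc.phiM_mm, hc.phiM_mm, Coded.phiM_tp, ← hGc, ← hg] at hstd
  have hdiag : Matrix.diagonal ![g, g, g] = g • (1 : Matrix (Fin 3) (Fin 3) F) := by
    ext i j
    fin_cases i <;> fin_cases j <;> simp [Matrix.one_apply]
  rw [hdiag] at hstd
  have hg0 : g ≠ 0 := by
    intro h
    apply hQ0
    refine hc.phi_inj ?_ (Nat.mul_pos hc.prime.pos hc.prime.pos) (by rw [← hg, h, hc.phi_zero])
    exact (hc.bnd_mm _ _).1.1
  have hQdet : (phiM P s Q).det ≠ 0 := fun h => by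
    have h' := congrArg Matrix.det hstd
    rw [Matrix.det_mul, Matrix.det_transpose, h, zero_mul, Matrix.det_smul, Matrix.det_one, mul_one] at h'
    exact pow_ne_zero _ hg0 h'.symm
  let Qg : GL (Fin 3) F := Matrix.GeneralLinearGroup.mkOfDetNeZero (phiM P s Q) hQdet
  have hσg : σ g = g := by
    have h := congrFun (congrFun hstd 0) 0
    simp only [Matrix.smul_apply, Matrix.one_apply_eq, smul_eq_mul, mul_one] at h
    rw [← h, hGd]
    simp [Matrix.mul_apply, Matrix.diagonal, Fin.sum_univ_three, (hQp _ _).1, hσ0]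
  obtain ⟨c, hcn⟩ := exists_norm hσ (c := g⁻¹) (by rw [map_inv₀, hσg])
  have hc0 : c ≠ 0 := fun h => by
    rw [h, zero_mul] at hcn
    exact inv_ne_zero hg0 hcn.symm
  refine ⟨M * Qg * scalarMat (Fin 3) c hc0, hσ.mem_GU.2 ?_, ?_⟩
  · have e : ((M * Qg * scalarMat (Fin 3) c hc0 : GL (Fin 3) F) : Matrix (Fin 3) (Fin 3) F) =
        c • ((M : Matrix (Fin 3) (Fin 3) F) * phiM P s Q) := by
      rw [Units.val_mul, Units.val_mul, coe_scalarMat, Matrix.mul_smul, mul_one]
      rfl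
    rw [e, Matrix.transpose_smul, twist_smul, Matrix.smul_mul, Matrix.mul_smul, smul_smul, hcn, Matrix.transpose_mul,
      twist_mul, hQt, Matrix.mul_assoc, ← Matrix.mul_assoc (M : Matrix (Fin 3) (Fin 3) F)ᵀ, ← hG, hstd, smul_smul,
      inv_mul_cancel₀ hg0, one_smul]
  · rw [subfieldSubgroup_mul_scalar F₀ _ (scalarMat_mem c hc0),
      subfieldSubgroup_mul_range _ (mem_range_map_subfield F₀ (k := Qg) fun i j => (hQp i j).2), hM,
      subfieldSubgroup_mul_range _ ⟨_, rfl⟩]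

/-- The standard subfield group of determinant one is in the certified group. -/
theorem subfield_le_cert (hF : Fintype.card F = P.p ^ 2) (hfix : P.fixOK = true) {L : List V3} {C : M3}
    {S : List M3} {cs : List ℕ} (hgood : P.allGood L (C :: S ++ cs.map fun c => Par.dia c c c) = true)
    (horth : P.orthOK C S = true) (hcube : P.cubeOK cs = true) {F₀ : Subfield F}
    (hmem : ∀ x : F, x ∈ F₀ ↔ σ x = x) {g : GL (Fin 3) F} (hg : g ∈ suGL 3 F q)
    (hg' : g ∈ (Matrix.GeneralLinearGroup.map (n := Fin 3) (F₀.subtype : F₀ →+* F)).range ⊔ scalars (Fin 3) F) :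
    g ∈ cert P q s L := by
  obtain ⟨_, ⟨A₀, rfl⟩, z, hz, rfl⟩ := Subgroup.mem_sup_of_normal_right.1 hg'
  obtain ⟨l, hl⟩ := (mem_scalars_iff z).1 hz
  obtain ⟨A, hA⟩ : ∃ A : Matrix (Fin 3) (Fin 3) F,
      A = ((Matrix.GeneralLinearGroup.map (F₀.subtype : F₀ →+* F) A₀ : GL (Fin 3) F) : Matrix (Fin 3) (Fin 3) F) :=
    ⟨_, rfl⟩
  have hAm : ∀ i j, A i j ∈ F₀ := fun i j => by rw [hA]; exact ((A₀ : Matrix (Fin 3) (Fin 3) F₀) i j).2
  have hval : ((Matrix.GeneralLinearGroup.map (F₀.subtype : F₀ →+* F) A₀ * z : GL (Fin 3) F) :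
      Matrix (Fin 3) (Fin 3) F) = (l : F) • A := by
    rw [Units.val_mul, hl, Matrix.mul_smul, mul_one, ← hA]
  have hAt : twist σ A = A := by ext i j; exact (hmem _).1 (hAm i j)
  have hgu := hσ.mem_GU.1 hg.1
  rw [hval, Matrix.transpose_smul, twist_smul, hAt, Matrix.smul_mul, Matrix.mul_smul, smul_smul] at hgu
  have hgd : ((l : F) • A).det = 1 := by
    rw [← hval]
    exact congrArg Units.val hg.2
  rw [Matrix.det_smul, Fintype.card_fin] at hgd
  obtain ⟨ν, hν⟩ : ∃ ν, ν = (l : F) * σ (l : F) := ⟨_, rfl⟩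
  rw [← hν] at hgu
  have hν0 : ν ≠ 0 := hν ▸ mul_ne_zero l.ne_zero (fun h => l.ne_zero (σ.injective (h.trans (map_zero σ).symm)))
  have hd2 : ν ^ 3 * A.det ^ 2 = 1 := by
    have h := congrArg Matrix.det hgu
    rw [Matrix.det_smul, Fintype.card_fin, Matrix.det_mul, Matrix.det_transpose, Matrix.det_one] at h
    linear_combination h
  -- normalise
  obtain ⟨r, hr⟩ : ∃ r, r = ν * A.det := ⟨_, rfl⟩
  have hdm : A.det ∈ F₀ := by
    rw [Matrix.det_fin_three]
    repeat' first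
      | apply add_mem
      | apply sub_mem
      | apply mul_mem
      | exact hAm _ _
  have hνm : ν ∈ F₀ := (hmem _).2 (by rw [hν, map_mul, hσ.invol]; ring)
  have hrm : r ∈ F₀ := hr ▸ mul_mem hνm hdm
  obtain ⟨A', hA'⟩ : ∃ A' : Matrix (Fin 3) (Fin 3) F, A' = (r * ν ^ 1) • A := ⟨_, rfl⟩
  have hA'm : ∀ i j, σ (A' i j) = A' i j := fun i j => (hmem _).1 (by
    rw [hA', Matrix.smul_apply, smul_eq_mul, pow_one]
    exact mul_mem (mul_mem hrm hνm) (hAm i j))
  have horthA : A'ᵀ * A' = 1 := by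
    rw [hA', Matrix.transpose_smul, Matrix.smul_mul, Matrix.mul_smul, smul_smul]
    rw [show r * ν ^ 1 * (r * ν ^ 1) = ν by rw [hr, pow_one]; linear_combination ν * hd2]
    exact hgu
  have hdetA : A'.det = 1 := by
    rw [hA', Matrix.det_smul, Fintype.card_fin, hr]
    linear_combination (ν ^ 3 * A.det ^ 2 + 1) * hd2
  have hadj : A'ᵀ = A'.adjugate := by
    have h := congrArg (· * A'.adjugate) horthA
    simp only [Matrix.mul_assoc, Matrix.mul_adjugate, hdetA, one_smul, mul_one, one_mul] at h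
    exact h
  have hcd : ∀ i j, ∃ n < P.p, phi P s n = A' i j := fun i j => hc.exists_small hF hfix (hA'm i j)
  choose n hn hnv using hcd
  obtain ⟨u, hu⟩ : ∃ u : V3, u = (n 0 0, n 1 0, n 2 0) := ⟨_, rfl⟩
  obtain ⟨v, hv⟩ : ∃ v : V3, v = (n 0 1, n 1 1, n 2 1) := ⟨_, rfl⟩
  have hpu : phiV P s u = fun i => A' i 0 := by
    funext i; fin_cases i <;> simp [hu, phiV, hnv]
  have hpv : phiV P s v = fun i => A' i 1 := by
    funext i; fin_cases i <;> simp [hv, phiV, hnv]
  have hone : 1 < P.p * P.p := Nat.one_lt_mul_iff.2 ⟨hc.prime.pos, hc.prime.pos, Or.inl hc.prime.one_lt⟩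
  have hh : ∀ (x y : V3) (a b : Fin 3), phiV P s x = (fun i => A' i a) → phiV P s y = (fun i => A' i b) →
      phi P s (P.herm x y) = (1 : Matrix (Fin 3) (Fin 3) F) a b := by
    intro x y a b hx hy
    rw [hc.phi_herm hσ, hx, hy, herm_eq hσ, ← horthA]
    simp [Matrix.mul_apply, dotProduct, hA'm, mul_comm]
  have huu : P.herm u u = 1 := hc.phi_inj (hc.dot_lt _ _) hone (by
    rw [hh u u 0 0 hpu hpu, hc.phi_one, Matrix.one_apply_eq])
  have hvv : P.herm v v = 1 := hc.phi_inj (hc.dot_lt _ _) hone (by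
    rw [hh v v 1 1 hpv hpv, hc.phi_one, Matrix.one_apply_eq])
  have huv : P.herm u v = 0 := hc.phi_inj (hc.dot_lt _ _) (by omega) (by
    rw [hh u v 0 1 hpu hpv, hc.phi_zero, Matrix.one_apply_ne (by decide)])
  have hok := Coded.allV_spec horth (u := u) (by simp [hu, hn])
  simp only [Bool.or_eq_true, Bool.not_eq_true', decide_eq_false_iff_not, huu, not_true_eq_false, false_or] at hok
  have hok' := Coded.allV_spec hok (u := v) (by simp [hv, hn])
  simp only [Bool.or_eq_true, Bool.not_eq_true', decide_eq_false_iff_not, hvv, huv, not_true_eq_false, false_or,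
    List.any_eq_true, List.mem_range, List.elem_iff] at hok'
  obtain ⟨k, -, hk⟩ := hok'
  have hcode : phiM P s (tp (u, v, P.cross u v)) = A' := by
    rw [Coded.phiM_tp]
    ext i j
    rw [Matrix.transpose_apply]
    have h2 := congrFun (congrFun hadj 2) i
    rw [Matrix.transpose_apply, Matrix.adjugate_fin_three] at h2
    fin_cases j
    · exact congrFun hpu i
    · exact congrFun hpv i
    · show phiV P s (P.cross u v) i = A' i 2
      rw [h2]
      fin_cases i <;>
        simp [Par.cross, phiV, hu, hv, hc.phi_qa, hc.phi_qm, hc.phi_qn, hnv] <;> ring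
  obtain ⟨gC, hgC, hgCv⟩ := hc.inM_pow (hc.mem_of_allGood hσ hgood (List.mem_cons_self ..)) k
  obtain ⟨gS, hgS, hgSv⟩ := hc.mem_of_allGood hσ hgood (List.mem_cons_of_mem _ (List.mem_append_left _ hk))
  -- the scalar
  obtain ⟨e, he⟩ : ∃ e, e = (l : F) * (r * ν ^ 1)⁻¹ := ⟨_, rfl⟩
  have hrne : r * ν ^ 1 ≠ 0 := by
    intro h
    rw [hA', h, zero_smul, Matrix.det_zero] at hdetA
    exact zero_ne_one hdetA
  have hgA : (l : F) • A = e • A' := by rw [he, hA', smul_smul, inv_mul_cancel_right₀ hrne]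
  have he3 : e ^ 3 = 1 := by
    have h := hgd
    rw [show (l : F) ^ 3 * A.det = ((l : F) • A).det by rw [Matrix.det_smul, Fintype.card_fin], hgA, Matrix.det_smul,
      Fintype.card_fin, hdetA, mul_one] at h
    exact h
  obtain ⟨m, hm, hm'⟩ := hc.phi_surj hF e
  have hcb := hcube
  simp only [Par.cubeOK, List.all_eq_true, List.mem_range, Bool.or_eq_true, Bool.not_eq_true',
    decide_eq_false_iff_not, List.elem_iff] at hcb
  have hmc : m ∈ cs := (hcb m hm).resolve_left (not_not.2 (hc.phi_inj (hc.qm_lt _ _) hone (by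
    rw [hc.phi_qm, hc.phi_qm, hm', hc.phi_one, ← he3]; ring)))
  obtain ⟨gz, hgz, hgzv⟩ := hc.mem_of_allGood hσ hgood
    (List.mem_cons_of_mem _ (List.mem_append_right _ (List.mem_map.2 ⟨m, hmc, rfl⟩)))
  rw [hc.phiM_mm, ← hgCv, hcode] at hgSv
  have hfin : Matrix.GeneralLinearGroup.map (F₀.subtype : F₀ →+* F) A₀ * z = gz * (gC⁻¹ * gS) := by
    refine Units.ext ?_
    rw [hval, hgA, Units.val_mul, Units.val_mul, hgSv, ← Matrix.mul_assoc ((gC⁻¹ : GL (Fin 3) F) : Matrix (Fin 3) (Fin 3) F),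
      ← Units.val_mul, inv_mul_cancel, Units.val_one, one_mul, hgzv, hc.phiM_dia, hm']
    ext i j
    fin_cases i <;> simp [Matrix.mul_apply, Matrix.diagonal, Fin.sum_univ_three]
  rw [hfin]
  exact mul_mem hgz (mul_mem (inv_mem hgC) hgS)

omit hc hσ in
/-- A diagonal code with irrational ratio is not in the standard subfield group. -/
lemma dia_notMem {F₀ : Subfield F} {g : GL (Fin 3) F} (hg0 : (g : Matrix (Fin 3) (Fin 3) F) 2 2 ∈ F₀)
    (hg2 : (g : Matrix (Fin 3) (Fin 3) F) 2 2 ≠ 0) (hg1 : (g : Matrix (Fin 3) (Fin 3) F) 0 0 ∉ F₀) :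
    g ∉ (Matrix.GeneralLinearGroup.map (n := Fin 3) (F₀.subtype : F₀ →+* F)).range ⊔ scalars (Fin 3) F := by
  intro h
  obtain ⟨_, ⟨A, rfl⟩, z, hz, rfl⟩ := Subgroup.mem_sup_of_normal_right.1 h
  obtain ⟨l, hl⟩ := (mem_scalars_iff z).1 hz
  rw [Units.val_mul, hl, Matrix.mul_smul, mul_one] at hg0 hg2 hg1
  simp only [Matrix.smul_apply, smul_eq_mul] at hg0 hg2 hg1
  apply hg1
  have e : ∀ i j, ((Matrix.GeneralLinearGroup.map (F₀.subtype : F₀ →+* F) A : GL (Fin 3) F) :
      Matrix (Fin 3) (Fin 3) F) i j ∈ F₀ := fun i j => ((A : Matrix (Fin 3) (Fin 3) F₀) i j).2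
  have h22 : ((Matrix.GeneralLinearGroup.map (F₀.subtype : F₀ →+* F) A : GL (Fin 3) F) :
      Matrix (Fin 3) (Fin 3) F) 2 2 ≠ 0 := right_ne_zero_of_mul hg2
  have hlm : (l : F) ∈ F₀ := by
    have := div_mem hg0 (e 2 2)
    rwa [mul_div_cancel_right₀ _ h22] at this
  exact mul_mem hlm (e 0 0)

omit P s hc

/-- Subfield groups of index two are not maximal for three and five. -/
theorem false_of_subfield_two (hq : q = 3 ∨ q = 5) {H : Subgroup (GL (Fin 3) F)}
    (hH : IsMaximalIn (suGL 3 F q) H) {F₀ : Subfield F} (hcard : Fintype.card F = Nat.card F₀ ^ 2)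
    {P₀ : GL (Fin 3) F} (hrat : IsFormRationalStructure (hermForm 3 F q) F₀ 1 P₀)
    (hle : H ≤ subfieldSubgroup F₀ P₀) : False := by
  classical
  have hmem : ∀ x : F, x ∈ F₀ ↔ σ x = x := fun x => mem_subfield_iff hσ hcard
  have key : ∀ (P : Par) (s : F), Coded P σ s → Fintype.card F = P.p ^ 2 → P.fixOK = true →
      ∀ (Qs : List M3), P.absorbOK Qs = true → ∀ (L : List V3) (C : M3) (S : List M3) (cs : List ℕ),
      P.allGood L (C :: S ++ cs.map fun c => Par.dia c c c) = true → P.orthOK C S = true → P.cubeOK cs = true →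
      ∀ t out : M3, (P.isU t && P.good L t) = true → phiM P s t 2 2 ∈ F₀ → phiM P s t 2 2 ≠ 0 →
        phiM P s t 0 0 ∉ F₀ → (P.isU out && P.bad L out) = true → False := by
    intro P s hc hF hfix Qs hQs L C S cs hgood horth hcube t out ht h1 h2 h3 hout
    obtain ⟨P', hP', hPe⟩ := exists_absorb hc hσ hF hfix hQs hmem P₀ hrat
    have hH' := maximal_back hP' hH
    have hstd : ∀ g ∈ back P' H,
        g ∈ (Matrix.GeneralLinearGroup.map (n := Fin 3) (F₀.subtype : F₀ →+* F)).range ⊔ scalars (Fin 3) F := by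
      intro g hg
      have h := hle (mem_back.1 hg)
      rw [← hPe] at h
      obtain ⟨x, hx, hxe⟩ := Subgroup.mem_map.1 h
      have : x = g := by simpa using hxe
      exact this ▸ hx
    rw [Bool.and_eq_true] at ht
    obtain ⟨gt, hgt, hgtv⟩ := hc.inM_of_good hσ ht.1 ht.2
    obtain ⟨gs, hgs, hgsv⟩ := hc.exists_outside hσ hout
    exact false_of_witness hH'
      (fun g hg => subfield_le_cert hc hσ hF hfix hgood horth hcube hmem (hH'.1.le hg) (hstd g hg)) inf_le_right hgt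
      (fun h => dia_notMem (hgtv ▸ h1) (hgtv ▸ h2) (hgtv ▸ h3) (hstd _ h)) hgs hgsv
  obtain ⟨s, hc⟩ := exists_coded hσ hq
  have hirr : ∀ (P : Par), Coded P σ s → ∀ n : ℕ, n < P.p * P.p → P.qc n ≠ n → P.qc n < P.p * P.p →
      phi P s n ∉ F₀ := fun P hc n hn hne hlt h => hne (hc.phi_inj hlt hn (by rw [hc.phi_qc]; exact (hmem _).1 h))
  rcases hq with rfl | rfl
  · have hc' : Coded Nine.par σ s := hc
    refine key Nine.par s hc' hσ.card Nine.fix_small _ Nine.absorb _ _ _ _ Nine.signed_good Nine.orth Nine.cube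
      (Par.dia 3 3 2) Nine.outsideAxes (by decide +kernel) ?_ ?_ ?_ Nine.axes_bad <;>
      rw [hc'.phiM_dia] <;> simp
    · rw [Coded.phi_eq_small (show 2 < Nine.par.p by decide)]; exact natCast_mem F₀ 2
    · intro h
      exact absurd (hc'.phi_inj (x := 2) (y := 0) (by decide) (by decide) (by rw [h, hc'.phi_zero])) (by decide)
    · exact hirr _ hc' 3 (by decide) (by decide) (by decide)
  · have hc' : Coded TwentyFive.par σ s := hc
    refine key TwentyFive.par s hc' hσ.card TwentyFive.fix_small _ TwentyFive.absorb _ _ _ _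
      TwentyFive.signed_good TwentyFive.orth TwentyFive.cube
      (Par.dia 13 18 1) TwentyFive.outside (by decide +kernel) ?_ ?_ ?_ TwentyFive.outside_bad <;>
      rw [hc'.phiM_dia] <;> simp
    · rw [hc'.phi_one]; exact one_mem F₀
    · rw [hc'.phi_one]; exact one_ne_zero
    · exact hirr _ hc' 13 (by decide) (by decide) (by decide)

end Cfsg.Agent.Lib.MaxClass.Unitary.Three
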