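import Mathlib
import Cfsg.Agent.Lib.MaxClass.UnitaryThree.Lines
import Cfsg.Agent.Lib.MaxClass.UnitaryMax

/-!
Normalisers of groups of order 27 are not maximal in the special unitary group over the field of 25 elements.
-/

set_option autoImplicit false
set_option linter.style.haveILetI false

namespace Cfsg.Agent.Lib.MaxClass.Unitary.Three

open Cfsg Cfsg.Geo Matrix
open Cfsg.Agent.Lib.Aschbacher
open Cfsg.Agent.Lib.MaxClass
open Cfsg.Agent.Lib.MaxClass.Unitary

variable {F : Type*} [Field F] [Fintype F] {q : ℕ} {σ : F ≃+* F}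

/-- Two non-commuting elements of a group of order 27 with the scalar commutator `c`. -/
theorem exists_pair {P : Par} {s : F} (hc : Coded P σ s) (hF : Fintype.card F = P.p ^ 2)
    (hcube : P.cubeOK [1, 12, 17] = true) (h17 : P.qm 17 17 = 12)
    {R : Subgroup (GL (Fin 3) F)} (hirr : ActsAbsolutelyIrreducibly (matrixSet R))
    (hclass : commutator R ≤ Subgroup.center R) (hR : Nat.card R = 27) (hZ : Nat.card (Subgroup.center R) = 3)
    (hexp : Monoid.exponent R = 3) :
    ∃ x y S : GL (Fin 3) F, x ∈ R ∧ y ∈ R ∧ S ∈ R ∧ x ^ 3 = 1 ∧ y ^ 3 = 1 ∧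
      (S : Matrix (Fin 3) (Fin 3) F) = phi P s 12 • 1 ∧ phi P s 12 ≠ 1 ∧ phi P s 12 ^ 3 = 1 ∧
      (x : Matrix (Fin 3) (Fin 3) F) * (y : Matrix (Fin 3) (Fin 3) F) =
        phi P s 12 • ((y : Matrix (Fin 3) (Fin 3) F) * (x : Matrix (Fin 3) (Fin 3) F)) := by
  have hcube' : ∀ x ∈ R, x ^ 3 = 1 := fun x hx => by
    have h := Monoid.pow_exponent_eq_one (⟨x, hx⟩ : R)
    rw [hexp] at h
    exact congrArg Subtype.val h
  have hne : Subgroup.center R ≠ ⊤ := fun h => by
    rw [h, Subgroup.card_top, hR] at hZ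
    omega
  obtain ⟨a, ha⟩ : ∃ a : R, a ∉ Subgroup.center R := by
    by_contra h
    push Not at h
    exact hne (eq_top_iff.2 fun x _ => h x)
  obtain ⟨b, hb⟩ : ∃ b : R, b * a ≠ a * b := by
    by_contra h
    push Not at h
    exact ha (Subgroup.mem_center_iff.2 h)
  have hmem : a * b * a⁻¹ * b⁻¹ ∈ Subgroup.center R :=
    hclass (Subgroup.commutator_mem_commutator (Subgroup.mem_top _) (Subgroup.mem_top _))
  obtain ⟨c, hc'⟩ := (mem_scalars_iff _).mp (center_mem_scalars hirr hmem)
  obtain ⟨S, hS⟩ : ∃ S : GL (Fin 3) F, S = ((a * b * a⁻¹ * b⁻¹ : R) : GL (Fin 3) F) := ⟨_, rfl⟩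
  rw [← hS] at hc'
  have hSR : S ∈ R := hS ▸ (a * b * a⁻¹ * b⁻¹).2
  have hab : (a : GL (Fin 3) F) * b = S * (b * a) := by
    rw [hS]
    simp [mul_assoc]
  have hc1 : (c : F) ≠ 1 := fun h => by
    rw [h, one_smul] at hc'
    have h' := hab
    rw [Units.ext (hc'.trans Units.val_one.symm), one_mul] at h'
    exact hb (Subtype.ext (by simpa using h'.symm))
  have hc3 : (c : F) ^ 3 = 1 := by
    have h := congrArg (fun g : GL (Fin 3) F => (g : Matrix (Fin 3) (Fin 3) F) 0 0) (hcube' S hSR)
    simpa [hc', smul_pow] using h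
  have hone : 1 < P.p * P.p := Nat.one_lt_mul_iff.2 ⟨hc.prime.pos, hc.prime.pos, Or.inl hc.prime.one_lt⟩
  obtain ⟨m, hm, hm'⟩ := hc.phi_surj hF (c : F)
  have hcb := hcube
  simp only [Par.cubeOK, List.all_eq_true, List.mem_range, Bool.or_eq_true, Bool.not_eq_true',
    decide_eq_false_iff_not, List.elem_iff] at hcb
  have hmc := (hcb m hm).resolve_left (not_not.2 (hc.phi_inj (hc.qm_lt _ _) hone (by
    rw [hc.phi_qm, hc.phi_qm, hm', hc.phi_one, ← hc3]; ring)))
  have habm := congrArg Units.val hab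
  rw [Units.val_mul, Units.val_mul, hc', Matrix.smul_mul, one_mul, Units.val_mul] at habm
  simp only [List.mem_cons, List.not_mem_nil, or_false] at hmc
  rcases hmc with rfl | rfl | rfl
  · exact absurd (hm'.symm.trans hc.phi_one) hc1
  · rw [hm']
    exact ⟨a, b, S, a.2, b.2, hSR, hcube' _ a.2, hcube' _ b.2, hc', hc1, hc3, habm⟩
  · have h2 : phi P s 12 = (c : F) * c := by rw [← h17, hc.phi_qm, hm']
    rw [h2]
    refine ⟨a, (b * b : R), S * S, a.2, (b * b : R).2, mul_mem hSR hSR, hcube' _ a.2, hcube' _ (b * b : R).2, ?_,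
      fun h => hc1 (by linear_combination hc3 - (c : F) * h), by linear_combination ((c : F) ^ 3 + 1) * hc3, ?_⟩
    · rw [Units.val_mul, hc', Matrix.smul_mul, one_mul, smul_smul]
    · rw [Subgroup.coe_mul, Units.val_mul, ← Matrix.mul_assoc, habm, Matrix.smul_mul, Matrix.mul_assoc, habm,
        Matrix.mul_smul, smul_smul, Matrix.mul_assoc]

/-- A non-trivial isometry of order three moved by a scalar by another one is diagonal in a cycled basis. -/
theorem exists_clock_basis (hσ : IsQAut q σ) {c : F} (hc1 : c ≠ 1) (hc3 : c ^ 3 = 1) (hcσ : σ c = c * c)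
    (h3 : (3 : F) ≠ 0) {x y : GL (Fin 3) F} (hx : x ∈ GU 3 F q) (hy : y ∈ GU 3 F q) (hx3 : x ^ 3 = 1)
    (hy3 : y ^ 3 = 1) (hxy : (x : Matrix (Fin 3) (Fin 3) F) * (y : Matrix (Fin 3) (Fin 3) F) =
      c • ((y : Matrix (Fin 3) (Fin 3) F) * (x : Matrix (Fin 3) (Fin 3) F))) :
    ∃ Q : GL (Fin 3) F, Q ∈ GU 3 F q ∧
      (x : Matrix (Fin 3) (Fin 3) F) * Q = (Q : Matrix (Fin 3) (Fin 3) F) * Matrix.diagonal ![1, c, c * c] ∧
      ∀ i : Fin 3, ((y : Matrix (Fin 3) (Fin 3) F) * (Q : Matrix (Fin 3) (Fin 3) F)) *ᵥ Pi.single i 1 =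
        (Q : Matrix (Fin 3) (Fin 3) F) *ᵥ Pi.single (i + 1) 1 := by
  classical
  have hc0 : c ≠ 0 := fun h => by rw [h] at hc3; norm_num at hc3
  have hsum : 1 + c + c * c = 0 :=
    (mul_eq_zero.1 (show (c - 1) * (1 + c + c * c) = 0 by linear_combination hc3)).resolve_left (sub_ne_zero.2 hc1)
  obtain ⟨X, hX⟩ : ∃ X, X = (x : Matrix (Fin 3) (Fin 3) F) := ⟨_, rfl⟩
  obtain ⟨Y, hY⟩ : ∃ Y, Y = (y : Matrix (Fin 3) (Fin 3) F) := ⟨_, rfl⟩
  rw [← hX, ← hY] at hxy
  have hX3 : X * (X * X) = 1 := by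
    have h := congrArg Units.val hx3
    rwa [Units.val_pow_eq_pow_val, Units.val_one, ← hX, pow_succ', pow_two] at h
  have hY3 : Y * (Y * Y) = 1 := by
    have h := congrArg Units.val hy3
    rwa [Units.val_pow_eq_pow_val, Units.val_one, ← hY, pow_succ', pow_two] at h
  have shift : ∀ (e : F) (u : Fin 3 → F), X *ᵥ u = e • u → X *ᵥ (Y *ᵥ u) = (c * e) • (Y *ᵥ u) := fun e u hu => by
    rw [Matrix.mulVec_mulVec, hxy, Matrix.smul_mulVec, ← Matrix.mulVec_mulVec, hu, Matrix.mulVec_smul, smul_smul]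
  -- an eigenvector
  obtain ⟨e0, he0⟩ : ∃ e : Fin 3 → F, e = Pi.single 0 1 := ⟨_, rfl⟩
  let v : F → Fin 3 → F := fun d => e0 + d • (X *ᵥ e0) + (d * d) • (X *ᵥ (X *ᵥ e0))
  have hev : ∀ d : F, d ^ 3 = 1 → X *ᵥ v d = (d * d) • v d := by
    intro d hd
    have h3' : X *ᵥ (X *ᵥ (X *ᵥ e0)) = e0 := by
      rw [Matrix.mulVec_mulVec, Matrix.mulVec_mulVec, Matrix.mul_assoc, hX3, Matrix.one_mulVec]
    simp only [v, Matrix.mulVec_add, Matrix.mulVec_smul, h3', smul_add, smul_smul]
    rw [show d * d * d = 1 by linear_combination hd, show d * d * (d * d) = d by linear_combination d * hd]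
    module
  obtain ⟨w, hw0, hw⟩ : ∃ w, w ≠ 0 ∧ X *ᵥ w = (1 : F) • w := by
    by_cases h1 : v 1 = 0
    swap
    · exact ⟨_, h1, by simpa using hev 1 (one_pow 3)⟩
    have hne : v c ≠ 0 ∨ v (c * c) ≠ 0 := by
      by_contra h
      push Not at h
      have h' : v 1 + v c + v (c * c) = (3 : F) • e0 := by
        simp only [v, one_mul, one_smul]
        match_scalars
        · ring
        · linear_combination hsum
        · linear_combination hsum + c * hc3
      rw [h1, h.1, h.2, add_zero, add_zero] at h'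
      rcases smul_eq_zero.1 h'.symm with h'' | h''
      · exact h3 h''
      · have := congrFun h'' 0
        simp [he0] at this
    have hY0 : ∀ u, Y *ᵥ u = 0 → u = 0 := fun u hu => by
      have h := congrArg ((Y * Y) *ᵥ ·) hu
      simp only [Matrix.mulVec_mulVec, Matrix.mulVec_zero] at h
      rwa [Matrix.mul_assoc, hY3, Matrix.one_mulVec] at h
    rcases hne with h | h
    · refine ⟨Y *ᵥ v c, fun hu => h (hY0 _ hu), ?_⟩
      rw [shift _ _ (hev c hc3)]
      congr 1
      linear_combination hc3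
    · refine ⟨Y *ᵥ (Y *ᵥ v (c * c)), fun hu => h (hY0 _ (hY0 _ hu)), ?_⟩
      rw [shift _ _ (shift _ _ (hev _ (by linear_combination (c ^ 3 + 1) * hc3)))]
      congr 1
      linear_combination (c ^ 3 + 1) * hc3
  let b : Fin 3 → Fin 3 → F := ![w, Y *ᵥ w, Y *ᵥ (Y *ᵥ w)]
  let e : Fin 3 → F := ![1, c, c * c]
  have hbe : ∀ i, X *ᵥ b i = e i • b i := by
    intro i
    fin_cases i
    · exact hw
    · simpa [b, e] using shift _ _ hw
    · simpa [b, e] using shift _ _ (shift _ _ hw)
  have hbY : ∀ i, Y *ᵥ b i = b (i + 1) := by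
    intro i
    fin_cases i <;> simp [b]
    rw [hY3, Matrix.one_mulVec]
  have hYiso : ∀ u u', hermForm 3 F q (Y *ᵥ u) (Y *ᵥ u') = hermForm 3 F q u u' := fun u u' =>
    hY ▸ mem_GU_apply hy u u'
  have hn : ∀ i, hermForm 3 F q (b i) (b i) = hermForm 3 F q w w := by
    intro i
    fin_cases i
    · rfl
    · exact hYiso _ _
    · exact (hYiso _ _).trans (hYiso _ _)
  have ho : ∀ i j, i ≠ j → hermForm 3 F q (b i) (b j) = 0 := by
    intro i j hij
    have h := mem_GU_apply hx (b i) (b j)
    rw [← hX, hbe, hbe, herm_smul_left hσ, herm_smul_right hσ, ← mul_assoc] at h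
    have hne : e i * σ (e j) ≠ 1 := by
      have hcc : c * c ≠ 1 := fun h' => hc1 (by linear_combination hc3 - c * h')
      have h4 : c * (c * c * (c * c)) ≠ 1 := fun h' => hcc (by linear_combination h' - c * c * hc3)
      fin_cases i <;> fin_cases j <;> first | exact absurd rfl hij | skip
      all_goals simp [e, hcσ]
      · exact hcc
      · intro h'; exact hc1 (by linear_combination h' - c * hc3)
      · exact hc1
      · intro h'; exact hcc (by linear_combination h' - c * c * hc3)
      · exact hcc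
      · intro h'; exact hc1 (by linear_combination h' - c * hc3)
    exact (mul_eq_zero.1 (show (e i * σ (e j) - 1) * hermForm 3 F q (b i) (b j) = 0 by
      linear_combination h)).resolve_left (sub_ne_zero.2 hne)
  have hww : hermForm 3 F q w w ≠ 0 := by
    intro hz
    have hall : ∀ i, hermForm 3 F q (b i) w = 0 := fun i => by
      by_cases hi : i = 0
      · subst hi; exact hz
      · exact ho i 0 hi
    -- w is orthogonal to everything
    obtain ⟨B, hB⟩ : ∃ B : Matrix (Fin 3) (Fin 3) F, B = Matrix.of fun i j => b j i := ⟨_, rfl⟩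
    have hker : ∀ g : Fin 3 → F, B *ᵥ g = g 0 • b 0 + g 1 • b 1 + g 2 • b 2 := fun g => by
      funext k
      simp [hB, Matrix.mulVec, dotProduct, Fin.sum_univ_three, mul_comm]
    have hinj : Function.Injective B.mulVec := by
      intro g g' hgg'
      have hbne : ∀ i, b i ≠ 0 := by
        intro i hi
        apply hw0
        have hY0 : ∀ u, Y *ᵥ u = 0 → u = 0 := fun u hu => by
          have h := congrArg ((Y * Y) *ᵥ ·) hu
          simp only [Matrix.mulVec_mulVec, Matrix.mulVec_zero] at h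
          rwa [Matrix.mul_assoc, hY3, Matrix.one_mulVec] at h
        fin_cases i
        · exact hi
        · exact hY0 _ hi
        · exact hY0 _ (hY0 _ hi)
      have heinj : Function.Injective e := by
        have hcc : c * c ≠ 1 := fun h' => hc1 (by linear_combination hc3 - c * h')
        intro i j h
        fin_cases i <;> fin_cases j <;> first | rfl | (exfalso; simp [e] at h)
        all_goals first
          | exact hc1 h | exact hc1 h.symm | exact hcc h | exact hcc h.symm
          | exact hc0 h | exact hc1 (mul_left_cancel₀ hc0 (h.trans (mul_one c).symm))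
          | exact hc1 (mul_left_cancel₀ hc0 (h.symm.trans (mul_one c).symm))
      have hli : LinearIndependent F b :=
        Module.End.eigenvectors_linearIndependent' (Matrix.toLin' X) e heinj b fun i =>
          ⟨Module.End.mem_eigenspace_iff.2 (by rw [Matrix.toLin'_apply]; exact hbe i), hbne i⟩
      have h := Fintype.linearIndependent_iff.1 hli (g - g') (by
        rw [Fin.sum_univ_three, ← hker]
        rw [Matrix.mulVec_sub]
        exact sub_eq_zero.2 hgg')
      funext i
      exact sub_eq_zero.1 (h i)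
    have hsurj := Finite.injective_iff_surjective.1 hinj
    refine hw0 (eq_zero_of_herm hσ fun u => ?_)
    obtain ⟨g, rfl⟩ := hsurj u
    rw [hker, herm_add_left hσ, herm_add_left hσ, herm_smul_left hσ, herm_smul_left hσ, herm_smul_left hσ,
      hall, hall, hall]
    ring
  obtain ⟨l, hl⟩ := exists_norm hσ (c := (hermForm 3 F q w w)⁻¹) (by rw [map_inv₀, herm_comm hσ])
  obtain ⟨Q, hQ, hQe⟩ := exists_frame hσ (fun i => l • b i)
    (fun i => by rw [herm_smul_left hσ, herm_smul_right hσ, hn, ← mul_assoc, hl, inv_mul_cancel₀ hww])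
    (fun i j h => by rw [herm_smul_left hσ, herm_smul_right hσ, ho i j h, mul_zero, mul_zero])
  refine ⟨Q, hQ, Matrix.ext_of_mulVec_single fun i => ?_, fun i => ?_⟩
  · rw [← Matrix.mulVec_mulVec, ← Matrix.mulVec_mulVec, hQe, Matrix.diagonal_mulVec_single, mul_one,
      show (Pi.single i (![1, c, c * c] i) : Fin 3 → F) = (![1, c, c * c] i) • Pi.single i 1 by
        rw [← Pi.single_smul, smul_eq_mul, mul_one],
      ← hX]
    simp only [Matrix.mulVec_smul, hQe, hbe]
    rw [smul_comm]
  · rw [← Matrix.mulVec_mulVec, hQe, hQe, ← hY, Matrix.mulVec_smul, hbY]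

/-- Normalisers of groups of order 27 are not maximal for five. -/
theorem false_of_symplectic (hσ : IsQAut q σ) (hq : q = 5) {H : Subgroup (GL (Fin 3) F)}
    (hH : IsMaximalIn (suGL 3 F q) H) {R : Subgroup (GL (Fin 3) F)} (hRGU : R ≤ GU 3 F q)
    (hirr : ActsAbsolutelyIrreducibly (matrixSet R)) (hclass : commutator R ≤ Subgroup.center R)
    (hR : Nat.card R = 27) (hZ : Nat.card (Subgroup.center R) = 3) (hexp : Monoid.exponent R = 3)
    (hle : H ≤ subgroupNormalizer R) : False := by
  classical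
  subst hq
  obtain ⟨s, hc⟩ : ∃ s, Coded TwentyFive.par σ s := exists_coded hσ (Or.inr rfl)
  have hF : Fintype.card F = TwentyFive.par.p ^ 2 := hσ.card
  obtain ⟨ω, hω⟩ : ∃ ω, ω = phi TwentyFive.par s 12 := ⟨_, rfl⟩
  obtain ⟨x, y, S, hx, hy, hS, hx3, hy3, hSv, hω1, hω3, hxy⟩ :=
    exists_pair hc hF TwentyFive.cube (by decide +kernel) hirr hclass hR hZ hexp
  rw [← hω] at hω1 hω3 hxy hSv
  have hωσ : σ ω = ω * ω := by
    rw [hω, ← hc.phi_qc, ← hc.phi_qm, show TwentyFive.par.qc 12 = TwentyFive.par.qm 12 12 from by decide +kernel]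
  have h3 : (3 : F) ≠ 0 := fun h => by
    have h' : phi TwentyFive.par s 3 = 0 := by
      rw [Coded.phi_eq_small (show 3 < TwentyFive.par.p by decide)]; exact_mod_cast h
    exact absurd (hc.phi_inj (x := 3) (y := 0) (by decide) (by decide) (by rw [h', hc.phi_zero])) (by decide)
  obtain ⟨Q, hQ, hQx, hQy⟩ := exists_clock_basis hσ hω1 hω3 hωσ h3 (hRGU hx) (hRGU hy) hx3 hy3 hxy
  have hH' := maximal_back hQ hH
  obtain ⟨R', hR'⟩ : ∃ R', R' = back Q R := ⟨_, rfl⟩
  have hclock : phiM TwentyFive.par s TwentyFive.clock = Matrix.diagonal ![1, ω, ω * ω] := by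
    rw [show TwentyFive.clock = Par.dia 1 12 17 from rfl, hc.phiM_dia, hc.phi_one, hω, ← hc.phi_qm,
      show TwentyFive.par.qm 12 12 = 17 from by decide +kernel]
  have hX : InM TwentyFive.par s R' TwentyFive.clock := by
    refine ⟨Q⁻¹ * x * Q, by rw [hR', mem_back]; simpa [mul_assoc] using hx, ?_⟩
    rw [Units.val_mul, Units.val_mul, Matrix.mul_assoc, hQx, ← Matrix.mul_assoc, ← Units.val_mul, inv_mul_cancel,
      Units.val_one, one_mul, hclock]
  have hY : InM TwentyFive.par s R' TwentyFive.shift := by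
    refine ⟨Q⁻¹ * y * Q, by rw [hR', mem_back]; simpa [mul_assoc] using hy, ?_⟩
    refine Matrix.ext_of_mulVec_single fun i => ?_
    rw [Units.val_mul, Units.val_mul, Matrix.mul_assoc, ← Matrix.mulVec_mulVec, hQy, Matrix.mulVec_mulVec,
      ← Units.val_mul, inv_mul_cancel, Units.val_one, Matrix.one_mulVec]
    funext k
    fin_cases i <;> fin_cases k <;>
      simp [TwentyFive.shift, phiM, phiV, hc.phi_zero, hc.phi_one]
  have hsc : ∀ c ∈ TwentyFive.roots, InM TwentyFive.par s R' (Par.dia c c c) := by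
    have hS' : InM TwentyFive.par s R' (Par.dia 12 12 12) := by
      refine ⟨S, ?_, ?_⟩
      · rw [hR', mem_back]
        have hcomm : Q * S = S * Q := Units.ext (by
          rw [Units.val_mul, Units.val_mul, hSv, Matrix.mul_smul, Matrix.smul_mul, one_mul, mul_one])
        rwa [hcomm, mul_inv_cancel_right]
      · rw [hSv, hc.phiM_dia, ← hω, ← Matrix.diagonal_one, ← Matrix.diagonal_smul]
        congr 1
        funext i
        fin_cases i <;> simp
    intro c hc'
    simp only [TwentyFive.roots, List.mem_cons, List.not_mem_nil, or_false] at hc'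
    rcases hc' with rfl | rfl | rfl
    · have h := hc.inM_one (M := R')
      exact h
    · exact hS'
    · have h := hc.inM_mul hS' hS'
      rwa [show TwentyFive.par.mm (Par.dia 12 12 12) (Par.dia 12 12 12) = Par.dia 17 17 17 from by decide +kernel] at h
  have hall : ∀ r ∈ TwentyFive.heis, InM TwentyFive.par s R' r := by
    intro r hr
    rw [TwentyFive.heis_words] at hr
    simp only [List.mem_flatMap, List.mem_map, List.mem_range] at hr
    obtain ⟨c, hc', i, -, j, -, rfl⟩ := hr
    exact hc.inM_mul (hc.inM_mul (hsc c hc') (hc.inM_pow hX i)) (hc.inM_pow hY j)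
  -- every element is a code
  have hcode : ∀ g ∈ R', ∃ r ∈ TwentyFive.heis, (g : Matrix (Fin 3) (Fin 3) F) = phiM TwentyFive.par s r := by
    have hbnd : ∀ r ∈ TwentyFive.heis, Bnd TwentyFive.par r := by
      unfold Bnd
      decide +kernel
    let f : Fin TwentyFive.heis.length → R' := fun i =>
      ⟨(hall _ (List.getElem_mem i.2)).choose, (hall _ (List.getElem_mem i.2)).choose_spec.1⟩
    have hf : ∀ i, ((f i : GL (Fin 3) F) : Matrix (Fin 3) (Fin 3) F) = phiM TwentyFive.par s TwentyFive.heis[i] :=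
      fun i => (hall _ (List.getElem_mem i.2)).choose_spec.2
    have hinj : Function.Injective f := fun i j hij => by
      have h := congrArg (fun g : R' => ((g : GL (Fin 3) F) : Matrix (Fin 3) (Fin 3) F)) hij
      simp only [hf] at h
      exact Fin.ext ((TwentyFive.heis_nodup.getElem_inj_iff).1
        (hc.phiM_inj (hbnd _ (List.getElem_mem i.2)) (hbnd _ (List.getElem_mem j.2)) h))
    have hcard : Nat.card R' = Nat.card (Fin TwentyFive.heis.length) := by
      rw [Nat.card_fin, TwentyFive.heis_length, hR', ← hR]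
      exact Nat.card_congr (Subgroup.equivMapOfInjective R _ (MulAut.conj Q⁻¹).injective).toEquiv.symm
    have hbij := hinj.bijective_of_nat_card_le hcard.le
    intro g hg
    obtain ⟨i, hi⟩ := hbij.2 ⟨g, hg⟩
    refine ⟨_, List.getElem_mem i.2, ?_⟩
    rw [← show (f i : GL (Fin 3) F) = g from congrArg Subtype.val hi]
    exact hf i
  have hnorm : ∀ g ∈ back Q H, ∀ r, r ∈ R' → g * r * g⁻¹ ∈ R' := by
    intro g hg r hr
    rw [hR', mem_back] at hr ⊢
    have h := (Subgroup.mem_normalizer_iff.1 (hle (mem_back.1 hg)) _).1 hr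
    simpa [mul_assoc] using h
  obtain ⟨X, hXR, hXv⟩ := hX
  obtain ⟨Y, hYR, hYv⟩ := hY
  have hsub : back Q H ≤ cert TwentyFive.par 5 s TwentyFive.lines6 := by
    intro g hg
    have hgS : g ∈ suGL 3 F 5 := hH'.1.le hg
    obtain ⟨r, hr, hrv⟩ := hcode _ (hnorm g hg X hXR)
    have hcov := TwentyFive.frames_cover
    simp only [List.all_eq_true, Bool.or_eq_true, List.any_eq_true, decide_eq_true_eq] at hcov
    rcases hcov r hr with ⟨c, -, rfl⟩ | ⟨w, hw, hwr⟩
    · exfalso
      obtain ⟨T, hT⟩ : ∃ T, T = g * X * g⁻¹ := ⟨_, rfl⟩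
      rw [← hT, hc.phiM_dia] at hrv
      have hTs : (T : Matrix (Fin 3) (Fin 3) F) = phi TwentyFive.par s c • 1 := by
        rw [hrv, ← Matrix.diagonal_one, ← Matrix.diagonal_smul]
        congr 1
        funext i
        fin_cases i <;> simp
      have hcm : T * g = g * T := Units.ext (by
        rw [Units.val_mul, Units.val_mul, hTs, Matrix.smul_mul, Matrix.mul_smul, one_mul, mul_one])
      have hXT : X = T := by
        calc X = g⁻¹ * (T * g) := by rw [hT]; group
          _ = T := by rw [hcm, inv_mul_cancel_left]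
      rw [← hXT, hXv, hclock] at hTs
      have h00 := congrFun (congrFun hTs 0) 0
      have h11 := congrFun (congrFun hTs 1) 1
      simp at h00 h11
      exact hω1 (h11.trans h00.symm)
    · obtain ⟨W, hW, hWv⟩ := hc.mem_of_allGood hσ TwentyFive.frames_good (List.mem_cons_of_mem _ hw)
      have hWX : W * X = g * X * g⁻¹ * W := Units.ext (by
        rw [Units.val_mul, Units.val_mul, hrv, hWv, hXv, ← hc.phiM_mm, hwr, hc.phiM_mm])
      obtain ⟨D, hD⟩ : ∃ D, D = W⁻¹ * g := ⟨_, rfl⟩
      have hDX : D * X = X * D := by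
        calc D * X = W⁻¹ * (g * X * g⁻¹) * g := by rw [hD]; group
          _ = W⁻¹ * (g * X * g⁻¹ * W) * W⁻¹ * g := by group
          _ = W⁻¹ * (W * X) * W⁻¹ * g := by rw [hWX]
          _ = X * D := by rw [hD]; group
      have hDS : D ∈ suGL 3 F 5 := hD ▸ mul_mem (inv_mem hW.2) hgS
      obtain ⟨a, b, ha, hb, hna, hnb, hDv⟩ := exists_diag_code hc hσ hF hDS fun i j hij => by
        have h := congrArg (fun M : GL (Fin 3) F => (M : Matrix (Fin 3) (Fin 3) F) i j) hDX
        simp only [Units.val_mul, hXv, hclock, Matrix.mul_diagonal, Matrix.diagonal_mul] at h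
        have hne : (![1, ω, ω * ω] : Fin 3 → F) i ≠ ![1, ω, ω * ω] j := by
          have hω0 : ω ≠ 0 := fun h => by rw [h] at hω3; norm_num at hω3
          have hωω : ω * ω ≠ 1 := fun h' => hω1 (by linear_combination hω3 - ω * h')
          have hωω' : ω ≠ ω * ω := fun h' => hω1 (mul_left_cancel₀ hω0 (h'.symm.trans (mul_one ω).symm))
          fin_cases i <;> fin_cases j <;> first | exact absurd rfl hij | skip
          all_goals simp [hω1, hωω, hωω', Ne.symm hω1, Ne.symm hωω, Ne.symm hωω']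
        exact (mul_eq_zero.1 (show ((![1, ω, ω * ω] : Fin 3 → F) j - ![1, ω, ω * ω] i) *
            (D : Matrix (Fin 3) (Fin 3) F) i j = 0 by linear_combination h)).resolve_left
          (sub_ne_zero.2 hne.symm)
      obtain ⟨r', hr', hr'v⟩ := hcode _ (hnorm g hg Y hYR)
      have hfr : (TwentyFive.frames.all fun u => TwentyFive.heis.all fun r' => TwentyFive.heis.any fun r =>
          decide (TwentyFive.par.mm u r = TwentyFive.par.mm r' u)) = true := by decide +kernel
      simp only [List.all_eq_true, List.any_eq_true, decide_eq_true_eq] at hfr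
      obtain ⟨r₀, hr₀, hwr₀⟩ := hfr w hw r' hr'
      obtain ⟨V, hV, hVv⟩ := hall r₀ hr₀
      have hWV : W * V = g * Y * g⁻¹ * W := Units.ext (by
        rw [Units.val_mul, Units.val_mul, hr'v, hWv, hVv, ← hc.phiM_mm, hwr₀, hc.phiM_mm])
      have hDY : D * Y = V * D := by
        calc D * Y = W⁻¹ * (g * Y * g⁻¹ * W) * W⁻¹ * g := by rw [hD]; group
          _ = W⁻¹ * (W * V) * W⁻¹ * g := by rw [hWV]
          _ = V * D := by rw [hD]; group
      have hok := TwentyFive.diag_norm
      simp only [Par.diagNormOK, List.all_eq_true, List.mem_range, Bool.or_eq_true, Bool.and_eq_true,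
        Bool.not_eq_true', decide_eq_false_iff_not, List.any_eq_false, decide_eq_true_eq] at hok
      have h2 := ((hok a ha).resolve_left (not_not.2 hna) b hb).resolve_left (fun h => ?_)
      · have hDM : D ∈ cert TwentyFive.par 5 s TwentyFive.lines6 :=
          Coded.mem_of_inM (hc.inM_of_good hσ h2.1 h2.2) hDv
        have h := mul_mem hW hDM
        rwa [hD, mul_inv_cancel_left] at h
      · rcases h with h | h
        · exact h hnb
        · exact h r₀ hr₀ (hc.mm_inj (by
            rw [← hDv, ← hYv, ← hVv, ← Units.val_mul, ← Units.val_mul, hDY]))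
  obtain ⟨T, hT, hTv⟩ := hc.mem_of_allGood hσ TwentyFive.frames_good (List.mem_cons_self ..)
  obtain ⟨u, hu, huv⟩ := hc.exists_outside hσ TwentyFive.outside6_bad
  refine false_of_witness hH' hsub inf_le_right hT (fun hTH => ?_) hu huv
  obtain ⟨r, hr, hrv⟩ := hcode _ (hnorm T hTH X hXR)
  have hm := TwentyFive.mover6_out
  simp only [List.all_eq_true, Bool.not_eq_true', decide_eq_false_iff_not] at hm
  refine hm r hr (hc.mm_inj ?_)
  rw [← hTv, ← hXv, ← hrv, ← Units.val_mul, ← Units.val_mul, inv_mul_cancel_right]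

end Cfsg.Agent.Lib.MaxClass.Unitary.Three
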